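import Mathlib

/-!
# Local configurations in a 2-group of class two

`IsTriple S T W r`: `T` has index two in the 2-group `S`, the odd order element `r` moves `T` only
inside the central subgroup `W`, and the elements of `S` outside `T` invert it there.
-/

set_option autoImplicit false

namespace Cfsg.Agent.Invol.ClassTwo

variable {G : Type*} [Group G] [Finite G]

theorem exists_odd_pow (g : G) : ∃ k, Odd (orderOf (g ^ 2 ^ k)) := by
  obtain ⟨k, m, hm, he⟩ := Nat.exists_eq_two_pow_mul_odd (n := orderOf g) (orderOf_pos g).ne'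
  refine ⟨k, hm.of_dvd_nat (orderOf_dvd_of_pow_eq_one ?_)⟩
  rw [← pow_mul, ← he, pow_orderOf_eq_one]

theorem eq_one_of_pow_two_pow {g : G} (hg : Odd (orderOf g)) {k : ℕ} (h : g ^ 2 ^ k = 1) : g = 1 := by
  rw [← orderOf_eq_one_iff]
  exact Nat.eq_one_of_dvd_coprimes (Nat.Coprime.pow_left k hg.coprime_two_left)
    (orderOf_dvd_of_pow_eq_one h) dvd_rfl

theorem commute_of_sq {r x : G} (hr : Odd (orderOf r)) (h : Commute (r ^ 2) x) : Commute r x := by
  obtain ⟨m, hm⟩ := hr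
  have e : r = (r ^ 2) ^ (m + 1) := by
    rw [← pow_mul, show 2 * (m + 1) = orderOf r + 1 by omega, pow_succ, pow_orderOf_eq_one, one_mul]
  rw [e]
  exact h.pow_left _

theorem exists_pow_two_pow {S : Subgroup G} (hS : IsPGroup 2 S) {x : G} (hx : x ∈ S) :
    ∃ k, x ^ 2 ^ k = 1 := by
  obtain ⟨k, hk⟩ := hS ⟨x, hx⟩
  exact ⟨k, by simpa using congrArg Subtype.val hk⟩

/-- An odd order element that moves `x` by a fixed 2-element fixes it. -/
theorem fixed_twist {r x c : G} (hr : Odd (orderOf r)) (he : r * x * r⁻¹ = c * x)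
    (hc : r * c * r⁻¹ = c) {k : ℕ} (h2 : c ^ 2 ^ k = 1) : c = 1 := by
  have key : ∀ i : ℕ, r ^ i * x * (r ^ i)⁻¹ = c ^ i * x := by
    intro i
    induction i with
    | zero => simp
    | succ i ih =>
      calc r ^ (i + 1) * x * (r ^ (i + 1))⁻¹ = r * (r ^ i * x * (r ^ i)⁻¹) * r⁻¹ := by rw [pow_succ']; group
        _ = (r * c ^ i * r⁻¹) * (r * x * r⁻¹) := by rw [ih]; group
        _ = c ^ i * (c * x) := by rw [← conj_pow, hc, he]
        _ = c ^ (i + 1) * x := by rw [pow_succ, mul_assoc]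
  have hm := key (orderOf r)
  rw [pow_orderOf_eq_one, one_mul, inv_one, mul_one, eq_comm, mul_eq_right] at hm
  rw [← orderOf_eq_one_iff]
  exact Nat.eq_one_of_dvd_coprimes (Nat.Coprime.pow_left k hr.coprime_two_left)
    (orderOf_dvd_of_pow_eq_one h2) (orderOf_dvd_of_pow_eq_one hm)

/-- The local configuration. -/
structure IsTriple (S T W : Subgroup G) (r : G) : Prop where
  le : T ≤ S
  two : IsPGroup 2 S
  wle : W ≤ T
  wc : ∀ w ∈ W, ∀ t ∈ T, Commute t w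
  wn : ∀ x ∈ S, ∀ w ∈ W, x * w * x⁻¹ ∈ W
  odd : Odd (orderOf r)
  comm : ∀ t ∈ T, r * t * r⁻¹ * t⁻¹ ∈ W
  fix : ∀ w ∈ W, r * w * r⁻¹ = w → w = 1
  ne : W ≠ ⊥
  idx : ∀ x ∈ S, ∀ y ∈ S, x ∉ T → y ∉ T → x * y ∈ T
  out : ∃ x ∈ S, x ∉ T
  inverts : ∀ x ∈ S, x ∉ T → ∀ m ∈ W, x * (r * m * r⁻¹) * x⁻¹ = r⁻¹ * (x * m * x⁻¹) * r

/-- `x` is centralized by `S`. -/
def Cent (S : Subgroup G) (x : G) : Prop := ∀ y ∈ S, Commute y x

namespace IsTriple

variable {S T W : Subgroup G} {r : G} (h : IsTriple S T W r)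
include h

theorem conj_mem {m : G} (hm : m ∈ W) : r * m * r⁻¹ ∈ W := by
  have e := W.mul_mem (h.comm m (h.wle hm)) hm
  simpa [mul_assoc] using e

/-- A noncentral element of `W` has centralizer `T` in `S`. -/
theorem mem_iff {w : G} (hw : w ∈ W) (hn : ¬ Cent S w) {x : G} (hx : x ∈ S) :
    Commute x w ↔ x ∈ T := by
  refine ⟨fun hc => by_contra fun hxT => hn fun y hy => ?_, fun hxT => h.wc w hw x hxT⟩
  by_cases hyT : y ∈ T
  · exact h.wc w hw y hyT
  · have h1 := (h.wc w hw _ (h.idx y hy x hx hyT hxT)).mul_left hc.inv_left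
    simpa using h1

theorem exists_not_cent : ∃ w ∈ W, ¬ Cent S w := by
  by_contra hall
  push Not at hall
  obtain ⟨s, hs, hsT⟩ := h.out
  obtain ⟨w, hw, hw1⟩ := W.ne_bot_iff_exists_ne_one.1 h.ne |> fun ⟨⟨w, hw⟩, hne⟩ =>
    (⟨w, hw, fun e => hne (Subtype.ext e)⟩ : ∃ w ∈ W, w ≠ 1)
  refine hw1 (h.fix w hw (commute_of_sq h.odd ?_).mul_inv_cancel)
  have e : r * w * r⁻¹ = r⁻¹ * w * r := by
    have h1 := h.inverts s hs hsT w hw
    rwa [(hall _ (h.conj_mem hw) s hs).mul_inv_cancel, (hall w hw s hs).mul_inv_cancel] at h1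
  show r ^ 2 * w = w * r ^ 2
  calc r ^ 2 * w = r * (r * w * r⁻¹) * r := by rw [sq]; group
    _ = r * (r⁻¹ * w * r) * r := by rw [e]
    _ = w * r ^ 2 := by rw [sq]; group

/-- Central elements of `W` are moved out of the centre. -/
theorem eq_one_of_cent {m : G} (hm : m ∈ W) (h1 : Cent S m) (h2 : Cent S (r * m * r⁻¹)) : m = 1 := by
  obtain ⟨s, hs, hsT⟩ := h.out
  refine h.fix m hm (commute_of_sq h.odd ?_).mul_inv_cancel
  have e : r * m * r⁻¹ = r⁻¹ * m * r := by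
    have h3 := h.inverts s hs hsT m hm
    rwa [(h2 s hs).mul_inv_cancel, (h1 s hs).mul_inv_cancel] at h3
  show r ^ 2 * m = m * r ^ 2
  calc r ^ 2 * m = r * (r * m * r⁻¹) * r := by rw [sq]; group
    _ = r * (r⁻¹ * m * r) * r := by rw [e]
    _ = m * r ^ 2 := by rw [sq]; group

end IsTriple

variable {S T₁ W₁ T₂ W₂ : Subgroup G} {r₁ r₂ : G}

/-- A noncentral element of `W₁` avoids `T₂`. -/
theorem not_mem_of_collision (h₁ : IsTriple S T₁ W₁ r₁) (h₂ : IsTriple S T₂ W₂ r₂)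
    (hc : ¬ W₂ ≤ T₁) {w : G} (hw : w ∈ W₁) (hn : ¬ Cent S w) : w ∉ T₂ := by
  intro hwT
  obtain ⟨u, hu, huT⟩ := SetLike.not_le_iff_exists.1 hc
  exact huT ((h₁.mem_iff hw hn (h₂.le (h₂.wle hu))).1 (h₂.wc u hu w hwT).symm)

theorem collision_symm (h₁ : IsTriple S T₁ W₁ r₁) (h₂ : IsTriple S T₂ W₂ r₂) (hc : ¬ W₂ ≤ T₁) :
    ¬ W₁ ≤ T₂ := fun hle => by
  obtain ⟨w, hw, hn⟩ := h₁.exists_not_cent
  exact not_mem_of_collision h₁ h₂ hc hw hn (hle hw)

open scoped commutatorElement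

variable (hcl : ∀ x ∈ S, ∀ y ∈ S, Cent S ⁅x, y⁆)
include hcl

/-- With a collision the configuration is small: `W₁` is a four-group whose central involution is
neither a square nor a commutator in `T₁`. -/
theorem collision_data (h₁ : IsTriple S T₁ W₁ r₁) (h₂ : IsTriple S T₂ W₂ r₂) (hc : ¬ W₂ ≤ T₁) :
    ∃ z ∈ W₁, z ≠ 1 ∧ Cent S z ∧ (∀ f ∈ W₁, Cent S f → f = 1 ∨ f = z) ∧ (∀ f ∈ W₁, f ^ 2 = 1) ∧
      (∀ d ∈ T₁, d ^ 2 ≠ z) ∧ ∀ d ∈ T₁, ∀ e ∈ T₁, ⁅d, e⁆ ≠ z := by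
  obtain ⟨w, hw, hn⟩ := h₁.exists_not_cent
  have hout : ∀ v ∈ W₁, ¬ Cent S v → v ∉ T₂ := fun v hv => not_mem_of_collision h₁ h₂ hc hv
  obtain ⟨u, hu, huT⟩ := SetLike.not_le_iff_exists.1 hc
  have huS : u ∈ S := h₂.le (h₂.wle hu)
  have hS₁ : W₁ ≤ S := h₁.wle.trans h₁.le
  -- products of two noncentral elements of `W₁` are central
  have hprod : ∀ m ∈ W₁, ∀ n ∈ W₁, ¬ Cent S m → ¬ Cent S n → Cent S (m * n) := by
    intro m hm n hn' hm' hn''
    by_contra hmn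
    exact hout _ (W₁.mul_mem hm hn') hmn
      (h₂.idx m (hS₁ hm) n (hS₁ hn') (hout m hm hm') (hout n hn' hn''))
  -- two central elements
  have htwo : ∀ f ∈ W₁, ∀ g ∈ W₁, Cent S f → Cent S g → f ≠ 1 → g ≠ 1 → f * g = 1 := by
    intro f hf g hg hf' hg' hf1 hg1
    refine h₁.eq_one_of_cent (W₁.mul_mem hf hg) (fun y hy => (hf' y hy).mul_right (hg' y hy)) ?_
    rw [← conj_mul]
    exact hprod _ (h₁.conj_mem hf) _ (h₁.conj_mem hg) (fun hh => hf1 (h₁.eq_one_of_cent hf hf' hh))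
      (fun hh => hg1 (h₁.eq_one_of_cent hg hg' hh))
  set z := ⁅u, w⁆ with hz
  have hzW : z ∈ W₁ := by
    rw [hz, commutatorElement_def]
    exact W₁.mul_mem (h₁.wn u huS w hw) (W₁.inv_mem hw)
  have hzc : Cent S z := hcl u huS w (hS₁ hw)
  have hz1 : z ≠ 1 := fun e => huT ((h₁.mem_iff hw hn huS).1 (commutatorElement_eq_one_iff_commute.1 e))
  have hzz : z * z = 1 := htwo z hzW z hzW hzc hzc hz1 hz1
  have hcases : ∀ f ∈ W₁, Cent S f → f = 1 ∨ f = z := fun f hf hf' => by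
    rcases eq_or_ne f 1 with h0 | h0
    · exact Or.inl h0
    · exact Or.inr (mul_right_cancel ((htwo f hf z hzW hf' hzc h0 hz1).trans hzz.symm))
  have hexp : ∀ f ∈ W₁, f ^ 2 = 1 := by
    intro f hf
    by_cases hf' : Cent S f
    · rcases hcases f hf hf' with rfl | rfl
      · simp
      · rw [sq]; exact hzz
    · set b := r₁ * z * r₁⁻¹ with hb
      have hbW : b ∈ W₁ := h₁.conj_mem hzW
      have hbn : ¬ Cent S b := fun hh => hz1 (h₁.eq_one_of_cent hzW hzc hh)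
      have hbb : b * b = 1 := by rw [hb, conj_mul, hzz, mul_one, mul_inv_cancel]
      have hfb := hcases _ (W₁.mul_mem hf hbW) (hprod f hf b hbW hf' hbn)
      have hcomm : Commute f b := h₁.wc b hbW f (h₁.wle hf)
      have : f = (f * b) * b := by rw [mul_assoc, hbb, mul_one]
      rcases hfb with he | he <;> rw [this, he]
      · rw [one_mul, sq, hbb]
      · rw [sq, (show Commute b z from h₁.wc z hzW b (h₁.wle hbW)).mul_mul_mul_comm, hzz, hbb, one_mul]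
  refine ⟨z, hzW, hz1, hzc, hcases, hexp, fun d hd he => hz1 (h₁.fix z hzW ?_),
    fun d hd e he hde => hz1 (h₁.fix z hzW ?_)⟩
  · set c := r₁ * d * r₁⁻¹ * d⁻¹ with hcdef
    have hcW : c ∈ W₁ := h₁.comm d hd
    have e1 : r₁ * d * r₁⁻¹ = c * d := by rw [hcdef]; group
    rw [← he, ← conj_pow, e1, (h₁.wc c hcW d hd).symm.mul_pow, hexp c hcW, one_mul]
  · set c := r₁ * d * r₁⁻¹ * d⁻¹ with hcdef
    set c' := r₁ * e * r₁⁻¹ * e⁻¹ with hcdef'
    have hcW : c ∈ W₁ := h₁.comm d hd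
    have hcW' : c' ∈ W₁ := h₁.comm e he
    have e1 : r₁ * d * r₁⁻¹ = c * d := by rw [hcdef]; group
    have e2 : r₁ * e * r₁⁻¹ = c' * e := by rw [hcdef']; group
    have e3 : r₁ * ⁅d, e⁆ * r₁⁻¹ = ⁅r₁ * d * r₁⁻¹, r₁ * e * r₁⁻¹⁆ := by
      simp only [commutatorElement_def]; group
    rw [← hde, e3, e1, e2, commutatorElement_def, commutatorElement_def]
    have k1 : Commute c' d := (h₁.wc c' hcW' d hd).symm
    have k2 : Commute c (c' * e * d⁻¹) := ((h₁.wc c hcW _ (h₁.wle hcW')).symm.mul_right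
      (h₁.wc c hcW e he).symm).mul_right (h₁.wc c hcW d hd).symm.inv_right
    calc c * d * (c' * e) * (c * d)⁻¹ * (c' * e)⁻¹
        = c * (d * c') * (e * d⁻¹) * c⁻¹ * (e⁻¹ * c'⁻¹) := by group
      _ = c * (c' * d) * (e * d⁻¹) * c⁻¹ * (e⁻¹ * c'⁻¹) := by rw [k1.eq]
      _ = c' * (d * e * d⁻¹ * e⁻¹) * c'⁻¹ := by
        have k3 : Commute c (c' * d * (e * d⁻¹)) := ((h₁.wc c hcW _ (h₁.wle hcW')).symm.mul_right
          (h₁.wc c hcW d hd).symm).mul_right ((h₁.wc c hcW e he).symm.mul_right (h₁.wc c hcW d hd).symm.inv_right)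
        rw [show c * (c' * d) * (e * d⁻¹) = c * (c' * d * (e * d⁻¹)) by group, k3.eq]
        group
      _ = d * e * d⁻¹ * e⁻¹ := by
        have hT : d * e * d⁻¹ * e⁻¹ ∈ T₁ :=
          T₁.mul_mem (T₁.mul_mem (T₁.mul_mem hd he) (T₁.inv_mem hd)) (T₁.inv_mem he)
        exact (h₁.wc c' hcW' _ hT).symm.mul_inv_cancel

/-- A configuration collides with at most one other subgroup `T`. -/
theorem collision_unique {T₃ W₃ : Subgroup G} {r₃ : G} (h₁ : IsTriple S T₁ W₁ r₁)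
    (h₂ : IsTriple S T₂ W₂ r₂) (h₃ : IsTriple S T₃ W₃ r₃) (hc₂ : ¬ W₂ ≤ T₁) (hc₃ : ¬ W₃ ≤ T₁) :
    T₂ = T₃ := by
  obtain ⟨z, hzW, hz1, hzc, hcases, hexp, hsq, hcm⟩ := collision_data hcl h₁ h₂ hc₂
  obtain ⟨z₂, hz₂W, hz₂1, -, hcases₂, hexp₂, -, -⟩ := collision_data hcl h₂ h₁ (collision_symm h₁ h₂ hc₂)
  obtain ⟨z₃, hz₃W, hz₃1, -, hcases₃, hexp₃, -, -⟩ := collision_data hcl h₃ h₁ (collision_symm h₁ h₃ hc₃)
  obtain ⟨w, hw, hn⟩ := h₁.exists_not_cent
  obtain ⟨u, hu, huT⟩ := SetLike.not_le_iff_exists.1 hc₂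
  obtain ⟨v, hv, hvT⟩ := SetLike.not_le_iff_exists.1 hc₃
  have hwS : w ∈ S := h₁.le (h₁.wle hw)
  have huS : u ∈ S := h₂.le (h₂.wle hu)
  have hvS : v ∈ S := h₃.le (h₃.wle hv)
  have hwT₂ : w ∉ T₂ := not_mem_of_collision h₁ h₂ hc₂ hw hn
  have key : ∀ x ∈ S, x ∉ T₁ → ⁅x, w⁆ = z := fun x hx hxT => by
    refine (hcases _ ?_ (hcl x hx w hwS)).resolve_left fun e =>
      hxT ((h₁.mem_iff hw hn hx).1 (commutatorElement_eq_one_iff_commute.1 e))
    rw [commutatorElement_def]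
    exact W₁.mul_mem (h₁.wn x hx w hw) (W₁.inv_mem hw)
  have hmem : ∀ (T W : Subgroup G) (r : G), IsTriple S T W r → ∀ a ∈ W, ∀ x ∈ S, ⁅a, x⁆ ∈ W :=
    fun T W r h a ha x hx => by
      rw [commutatorElement_def, mul_assoc, mul_assoc, ← mul_assoc x]
      exact W.mul_mem ha (h.wn x hx _ (W.inv_mem ha))
  have hcv : ∀ x ∈ S, ⁅v, x⁆ = 1 ∨ ⁅v, x⁆ = z := fun x hx => by
    rcases hcases₃ z (key v hvS hvT ▸ hmem _ _ _ h₃ v hv w hwS) hzc with e | e
    · exact absurd e hz1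
    · rw [e]
      exact hcases₃ _ (hmem _ _ _ h₃ v hv x hx) (hcl v hvS x hx)
  -- decompose `v`
  obtain ⟨j, d, hd₁, hd₂, hvd⟩ : ∃ j : Bool, ∃ d, d ∈ T₁ ∧ d ∈ T₂ ∧
      v = u * (if j then w * d else d) := by
    have h0 : u⁻¹ * v ∈ T₁ := h₁.idx _ (S.inv_mem huS) v hvS (fun e => huT (by simpa using T₁.inv_mem e)) hvT
    by_cases h1 : u⁻¹ * v ∈ T₂
    · exact ⟨false, u⁻¹ * v, h0, h1, by simp⟩
    · refine ⟨true, w⁻¹ * (u⁻¹ * v), T₁.mul_mem (T₁.inv_mem (h₁.wle hw)) h0,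
        h₂.idx _ (S.inv_mem hwS) _ (S.mul_mem (S.inv_mem huS) hvS) (fun e => hwT₂ (by simpa using T₂.inv_mem e)) h1,
        by simp⟩
  have hud : Commute d u := h₂.wc u hu d hd₂
  have hwd : Commute d w := h₁.wc w hw d hd₁
  have hDd : ∀ e ∈ T₁, e ∈ T₂ → Commute e d := by
    intro e he₁ he₂
    have hue : Commute e u := h₂.wc u hu e he₂
    have hwe : Commute e w := h₁.wc w hw e he₁
    have hve : ⁅v, e⁆ = ⁅d, e⁆ := by
      have hT₁' : d * e * d⁻¹ ∈ T₁ := T₁.mul_mem (T₁.mul_mem hd₁ he₁) (T₁.inv_mem hd₁)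
      have hT₂' : d * e * d⁻¹ ∈ T₂ := T₂.mul_mem (T₂.mul_mem hd₂ he₂) (T₂.inv_mem hd₂)
      have hc' : Commute (d * e * d⁻¹) (if j then u * w else u) := by
        cases j
        · exact h₂.wc u hu _ hT₂'
        · exact (h₂.wc u hu _ hT₂').mul_right (h₁.wc w hw _ hT₁')
      have hv' : v = (if j then u * w else u) * d := by
        rw [hvd]; cases j <;> simp [mul_assoc]
      rw [hv', commutatorElement_def, commutatorElement_def]
      calc (if j then u * w else u) * d * e * ((if j then u * w else u) * d)⁻¹ * e⁻¹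
          = ((if j then u * w else u) * (d * e * d⁻¹) * (if j then u * w else u)⁻¹) * e⁻¹ := by group
        _ = d * e * d⁻¹ * e⁻¹ := by rw [hc'.symm.mul_inv_cancel]
    rcases hcv e (h₁.le he₁) with h0 | h0 <;> rw [hve] at h0
    · exact (commutatorElement_eq_one_iff_commute.1 h0).symm
    · exact absurd h0 (hcm d hd₁ e he₁)
  have hdc : Cent S d := by
    have hT : ∀ x ∈ T₁, Commute x d := fun x hx => by
      by_cases hx₂ : x ∈ T₂
      · exact hDd x hx hx₂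
      · have h1 := hDd _ (T₁.mul_mem hx (h₁.wle hw)) (h₂.idx x (h₁.le hx) w hwS hx₂ hwT₂)
        simpa using h1.mul_left hwd.symm.inv_left
    intro x hx
    by_cases hx₁ : x ∈ T₁
    · exact hT x hx₁
    · simpa using (hT _ (h₁.idx x hx u huS hx₁ huT)).mul_left hud.symm.inv_left
  have huu : u * u = 1 := by rw [← sq]; exact hexp₂ u hu
  cases j
  · -- `v` differs from `u` by a central element
    simp only [Bool.false_eq_true, if_false] at hvd
    have hun : ¬ Cent S u := fun hh => huT ((h₁.mem_iff hw hn huS).1 ((hh w hwS).symm))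
    have hvn : ¬ Cent S v := fun hh => hvT ((h₁.mem_iff hw hn hvS).1 ((hh w hwS).symm))
    ext x
    constructor
    · intro hx
      have hxS := h₂.le hx
      exact (h₃.mem_iff hv hvn hxS).1 (hvd ▸ (h₂.wc u hu x hx).mul_right (hdc x hxS))
    · intro hx
      have hxS := h₃.le hx
      have h1 := (h₃.wc v hv x hx).mul_right (hdc x hxS).inv_right
      rw [hvd, mul_inv_cancel_right] at h1
      exact (h₂.mem_iff hu hun hxS).1 h1
  · exfalso
    simp only [if_true] at hvd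
    have hww : w * w = 1 := by rw [← sq]; exact hexp w hw
    have hvv : v * v = 1 := by rw [← sq]; exact hexp₃ v hv
    have hui : u⁻¹ = u := inv_eq_of_mul_eq_one_right huu
    have hwi : w⁻¹ = w := inv_eq_of_mul_eq_one_right hww
    have hz' : u * w * (u * w) = z := by
      rw [← key u huS huT, commutatorElement_def, hui, hwi, ← mul_assoc]
    have h1 : v * v = z * (d * d) := by
      rw [hvd, ← mul_assoc u w d, (hud.mul_right hwd).mul_mul_mul_comm, hz']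
    refine hsq d⁻¹ (T₁.inv_mem hd₁) ?_
    rw [hvv, eq_comm, mul_eq_one_iff_eq_inv] at h1
    rw [h1, sq]
    group

end Cfsg.Agent.Invol.ClassTwo
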