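import Mathlib
import Cfsg.Agent.Lib.Grp.Coprime
import Cfsg.Agent.Lib.Grp.Signalizer
import Cfsg.Agent.Lib.Invol.ClassTwo.Basic

/-!
# The maximal 2-local of a group with Sylow 2-subgroups of class two

If `T` is a largest 2-subgroup whose normalizer induces an automorphism of odd order and `T` is not
a Sylow subgroup, then `T` and an odd element give a configuration `IsTriple`.
-/

set_option autoImplicit false
set_option maxHeartbeats 800000

namespace Cfsg.Agent.Invol.ClassTwo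

open scoped commutatorElement Pointwise
open Subgroup

variable {G : Type*} [Group G] [Finite G]

theorem mem_of_odd {H : Subgroup G} {g : G} (hg : Odd (orderOf g)) {k : ℕ} (h : g ^ 2 ^ k ∈ H) : g ∈ H := by
  obtain ⟨m, hm⟩ := exists_pow_eq_self_of_coprime (n := 2 ^ k) (x := g)
    (Nat.Coprime.pow_left k hg.coprime_two_left)
  exact hm ▸ H.pow_mem h m

theorem exists_odd_lift {Q : Type*} [Group Q] (f : G →* Q) (y : G) (hy : Odd (orderOf (f y))) :
    ∃ x : G, Odd (orderOf x) ∧ f x = f y := by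
  obtain ⟨k, hk⟩ := exists_odd_pow y
  obtain ⟨m, hm⟩ := exists_pow_eq_self_of_coprime (n := 2 ^ k) (x := f y)
    (Nat.Coprime.pow_left k hy.coprime_two_left)
  exact ⟨(y ^ 2 ^ k) ^ m, hk.of_dvd_nat (orderOf_pow_dvd m), by rw [map_pow, map_pow, hm]⟩

theorem local_triple (S : Sylow 2 G)
    (hcl : ∀ x ∈ (S : Subgroup G), ∀ y ∈ (S : Subgroup G), Cent (S : Subgroup G) ⁅x, y⁆)
    {T : Subgroup G} (hTS : T ≤ (S : Subgroup G)) (hne : T ≠ (S : Subgroup G)) {g : G}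
    (hgN : g ∈ normalizer (T : Set G)) (hgo : Odd (orderOf g)) (hgC : g ∉ centralizer (T : Set G))
    (hmax : ∀ U : Subgroup G, IsPGroup 2 U → Nat.card T < Nat.card U →
      ∀ y ∈ normalizer (U : Set G), Odd (orderOf y) → y ∈ centralizer (U : Set G)) :
    ∃ W, IsTriple (S : Subgroup G) T W g := by
  classical
  haveI : Fact (Nat.Prime 2) := ⟨Nat.prime_two⟩
  have hSp : IsPGroup 2 (S : Subgroup G) := S.isPGroup'
  have hTp : IsPGroup 2 T := hSp.to_le hTS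
  set N := normalizer (T : Set G) with hN
  set C := centralizer (T : Set G) with hC
  have hTN : T ≤ N := le_normalizer
  have hCN : C ≤ N := centralizer_le_normalizer _
  have hNC : ∀ n ∈ N, ∀ c ∈ C, n * c * n⁻¹ ∈ C := fun n hn c hc => by
    rw [hC, mem_centralizer_iff]
    intro t ht
    have h1 := mem_centralizer_iff.1 hc (n⁻¹ * t * n) (Grp.mem_conj_normalizer' hn ht)
    calc t * (n * c * n⁻¹) = n * (n⁻¹ * t * n * c) * n⁻¹ := by group
      _ = n * (c * (n⁻¹ * t * n)) * n⁻¹ := by rw [h1]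
      _ = _ := by group
  set L : Subgroup N := (T ⊔ C).subgroupOf N with hL
  haveI hLn : L.Normal := ⟨fun l hl n => by
    rw [hL, mem_subgroupOf] at hl ⊢
    have hle : T ⊔ C ≤ (T ⊔ C).comap (MulAut.conj (n : G)).toMonoidHom :=
      sup_le (fun t ht => mem_sup_left ((mem_normalizer_iff.1 n.2 t).1 ht))
        (fun c hc => mem_sup_right (hNC n n.2 c hc))
    exact hle hl⟩
  let f : N →* N ⧸ L := QuotientGroup.mk' L
  have hfs : Function.Surjective f := QuotientGroup.mk'_surjective L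
  have hf1 : ∀ (x : G) (hx : x ∈ N), f ⟨x, hx⟩ = 1 ↔ x ∈ T ⊔ C := fun x hx => by
    rw [QuotientGroup.mk'_apply, QuotientGroup.eq_one_iff, hL, mem_subgroupOf]
  have hTC : T ≤ normalizer (C : Set G) := Grp.invariant_iff.mp fun t ht c hc => hNC t (hTN ht) c hc
  have hdec : ∀ x ∈ T ⊔ C, ∃ t ∈ T, ∃ c ∈ C, t * c = x := fun x hx => by
    rw [← SetLike.mem_coe, coe_mul_of_left_le_normalizer_right _ _ hTC] at hx
    exact hx
  set q₀ := f ⟨g, hgN⟩ with hq₀
  have hgmk : Odd (orderOf (⟨g, hgN⟩ : N)) := by rwa [Subgroup.orderOf_mk]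
  have hq₀o : Odd (orderOf q₀) := hgmk.of_dvd_nat (orderOf_map_dvd f _)
  have hq₀1 : q₀ ≠ 1 := by
    rw [hq₀, Ne, hf1]
    intro hmem
    obtain ⟨t, ht, c, hc, hgt⟩ := hdec g hmem
    obtain ⟨k, hk⟩ := exists_pow_two_pow hTp ht
    refine hgC (mem_of_odd hgo (k := k) ?_)
    have hTn : (C.subgroupOf N).Normal := ⟨fun l hl n => hNC n n.2 l hl⟩
    have e : ((⟨g, hgN⟩ : N) : N ⧸ C.subgroupOf N) = ((⟨t, hTN ht⟩ : N) : N ⧸ C.subgroupOf N) := by
      rw [QuotientGroup.eq, mem_subgroupOf]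
      show g⁻¹ * t ∈ C
      have hcc : Commute c t := (mem_centralizer_iff.1 hc t ht).symm
      rw [← hgt, mul_inv_rev, inv_mul_cancel_right]
      exact C.inv_mem hc
    have e' := congrArg (· ^ 2 ^ k) e
    simp only [← QuotientGroup.mk_pow] at e'
    rw [show (⟨t, hTN ht⟩ : N) ^ 2 ^ k = 1 from Subtype.ext (by simpa using hk), QuotientGroup.mk_one,
      QuotientGroup.eq_one_iff, mem_subgroupOf] at e'
    simpa using e'
  -- larger subgroups leave no room for odd automorphisms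
  have HQ : ∀ X : Subgroup (N ⧸ L), IsPGroup 2 X → ∀ U : Subgroup G, T ≤ U → Nat.card T < Nat.card U →
      IsPGroup 2 U → (∀ u ∈ U, ∃ hu : u ∈ N, f ⟨u, hu⟩ ∈ X) →
      ∀ q ∈ normalizer (X : Set (N ⧸ L)), Odd (orderOf q) → q = 1 := by
    intro X hX U hTU hcard hUp hUX q hq hqo
    obtain ⟨n, rfl⟩ := hfs q
    set M := (X.comap f).map N.subtype with hM
    have hUM : U ≤ M := fun u hu => by
      obtain ⟨huN, hux⟩ := hUX u hu
      exact ⟨⟨u, huN⟩, hux, rfl⟩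
    obtain ⟨P₀, hP₀⟩ := (show IsPGroup 2 (U.subgroupOf M) from hUp.comap_subtype).exists_le_sylow
    set P := (P₀ : Subgroup M).map M.subtype with hP
    have hPs : Grp.IsSylowIn 2 P M := Grp.isSylowIn_iff.mpr ⟨P₀, rfl⟩
    have hUP : U ≤ P := fun u hu => ⟨⟨u, hUM hu⟩, hP₀ (mem_subgroupOf.2 hu), rfl⟩
    have hnM : MulAut.conj (n : G) • M = M := Grp.mem_normalizer_iff_smul.mp (by
      rw [mem_normalizer_iff]
      intro x
      constructor
      · rintro ⟨y, hy, rfl⟩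
        exact ⟨n * y * n⁻¹, by
          simp only [SetLike.mem_coe, mem_comap, map_mul, map_inv]
          exact (mem_normalizer_iff.1 hq _).1 hy, rfl⟩
      · rintro ⟨y, hy, e⟩
        refine ⟨n⁻¹ * y * n, ?_, ?_⟩
        · simp only [SetLike.mem_coe, mem_comap, map_mul, map_inv]
          exact Grp.mem_conj_normalizer' hq hy
        · simp only [coe_subtype] at e
          simp only [coe_subtype, Subgroup.coe_mul, Subgroup.coe_inv, e]
          group)
    obtain ⟨m, hm, hm'⟩ := (hPs.smul hnM).conj hPs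
    obtain ⟨⟨m₀, hm₀N⟩, hm₀X, rfl⟩ := hm
    set n₀ : N := ⟨m₀, hm₀N⟩ * n with hn₀
    have hn₀P : (n₀ : G) ∈ normalizer (P : Set G) := Grp.mem_normalizer_iff_smul.mpr (by
      rw [hn₀, Subgroup.coe_mul, ← Grp.conj_smul_conj_smul]
      exact hm')
    obtain ⟨k, hk⟩ := exists_odd_pow (n₀ : G)
    have hlt : Nat.card T < Nat.card P := hcard.trans_le (Nat.le_of_dvd Nat.card_pos (card_dvd_of_le hUP))
    have hcent := hmax P hPs.2.1 hlt _ ((normalizer (P : Set G)).pow_mem hn₀P _) hk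
    have hc1 : f (n₀ ^ 2 ^ k) = 1 := by
      rw [show n₀ ^ 2 ^ k = ⟨(n₀ : G) ^ 2 ^ k, N.pow_mem n₀.2 _⟩ from Subtype.ext (by simp), hf1]
      exact mem_sup_right (Subgroup.centralizer_le (hTU.trans hUP) hcent)
    have hx : f ⟨m₀, hm₀N⟩ ∈ X := hm₀X
    set Y := normalizer (X : Set (N ⧸ L)) with hY
    haveI : (X.subgroupOf Y).Normal := Subgroup.normal_in_normalizer
    have e1 : ((⟨f n₀, by rw [hn₀, map_mul]; exact Y.mul_mem (le_normalizer hx) hq⟩ : Y) : Y ⧸ X.subgroupOf Y)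
        = ((⟨f n, hq⟩ : Y) : Y ⧸ X.subgroupOf Y) := by
      rw [QuotientGroup.eq, mem_subgroupOf]
      show (f n₀)⁻¹ * f n ∈ X
      rw [hn₀, map_mul, mul_inv_rev]
      exact Grp.mem_conj_normalizer' hq (X.inv_mem hx)
    have e2 := congrArg (· ^ 2 ^ k) e1
    simp only [← QuotientGroup.mk_pow] at e2
    rw [(QuotientGroup.eq_one_iff _).2 (mem_subgroupOf.2 (by simp [← map_pow, hc1])), eq_comm,
      QuotientGroup.eq_one_iff, mem_subgroupOf] at e2
    have hqX : f n ∈ X := mem_of_odd hqo (k := k) (by simpa using e2)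
    obtain ⟨j, hj⟩ := exists_pow_two_pow hX hqX
    exact eq_one_of_pow_two_pow hqo hj
  -- 2-elements centralizing `T` lie in `T`
  have H2 : ∀ x ∈ C, ∀ k : ℕ, x ^ 2 ^ k = 1 → x ∈ T := by
    intro x hx k hk
    by_contra hxT
    have hz : IsPGroup 2 (zpowers x) := by
      obtain ⟨j, -, hj⟩ := (Nat.dvd_prime_pow Nat.prime_two).1 (orderOf_dvd_of_pow_eq_one hk)
      exact IsPGroup.of_card (n := j) (by rw [Nat.card_zpowers, hj])
    have hU : IsPGroup 2 ↥(T ⊔ zpowers x) :=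
      hTp.to_sup_of_normal_left' hz (zpowers_le.2 (hCN hx))
    have hlt : T < T ⊔ zpowers x := lt_of_le_of_ne le_sup_left fun e =>
      hxT (e ▸ mem_sup_right (mem_zpowers x) : x ∈ T)
    refine hq₀1 (HQ ⊥ IsPGroup.of_bot (T ⊔ zpowers x) le_sup_left
      (lt_of_not_ge fun h => hlt.ne (eq_of_le_of_card_ge hlt.le h)) hU (fun u hu => ?_) q₀
      (mem_normalizer_iff.2 fun y => by simp) hq₀o)
    have hu' : u ∈ T ⊔ C := sup_le le_sup_left (zpowers_le.2 (mem_sup_right hx)) hu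
    exact ⟨sup_le hTN hCN hu', by rw [Subgroup.mem_bot, hf1]; exact hu'⟩
  have hcent : ∀ z ∈ (S : Subgroup G), Cent (S : Subgroup G) z → z ∈ T := fun z hz hzc => by
    obtain ⟨k, hk⟩ := exists_pow_two_pow hSp hz
    exact H2 z (mem_centralizer_iff.2 fun t ht => hzc t (hTS ht)) k hk
  have hcomT : ∀ x ∈ (S : Subgroup G), ∀ y ∈ (S : Subgroup G), ⁅x, y⁆ ∈ T := fun x hx y hy =>
    hcent _ (by rw [commutatorElement_def]; exact mul_mem (mul_mem (mul_mem hx hy) (inv_mem hx)) (inv_mem hy)) (hcl x hx y hy)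
  have hSN : (S : Subgroup G) ≤ N := Grp.invariant_iff.mp fun x hx t ht => by
    rw [show x * t * x⁻¹ = ⁅x, t⁆ * t by rw [commutatorElement_def]; group]
    exact T.mul_mem (hcomT x hx t (hTS ht)) ht
  have hST : ∀ x (hx : x ∈ (S : Subgroup G)), f ⟨x, hSN hx⟩ = 1 → x ∈ T := by
    intro x hx hfx
    obtain ⟨t, ht, c, hc, rfl⟩ := hdec x ((hf1 _ _).1 hfx)
    have hcS : c ∈ (S : Subgroup G) := by simpa using mul_mem (inv_mem (hTS ht)) hx
    obtain ⟨k, hk⟩ := exists_pow_two_pow hSp hcS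
    exact T.mul_mem ht (H2 c hc k hk)
  -- the quotient has a normal complement to the abelian group `S T / T`
  let S' : Sylow 2 N := S.subtype hSN
  let P : Sylow 2 (N ⧸ L) := S'.mapSurjective hfs
  have hPmem : ∀ y, y ∈ (P : Subgroup (N ⧸ L)) ↔ ∃ x, ∃ hx : x ∈ (S : Subgroup G), f ⟨x, hSN hx⟩ = y := by
    intro y
    constructor
    · rintro ⟨⟨x, hxN⟩, hx, rfl⟩
      exact ⟨x, hx, rfl⟩
    · rintro ⟨x, hx, rfl⟩
      exact ⟨⟨x, hSN hx⟩, hx, rfl⟩
  have hlt : T < (S : Subgroup G) := lt_of_le_of_ne hTS hne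
  have hcardTS : Nat.card T < Nat.card (S : Subgroup G) :=
    lt_of_not_ge fun h => hlt.ne (eq_of_le_of_card_ge hTS h)
  have hPab : ∀ a ∈ (P : Subgroup (N ⧸ L)), ∀ b ∈ (P : Subgroup (N ⧸ L)), a * b = b * a := by
    intro a ha b hb
    obtain ⟨x, hx, rfl⟩ := (hPmem a).1 ha
    obtain ⟨y, hy, rfl⟩ := (hPmem b).1 hb
    rw [← commute_iff_eq, ← commutatorElement_eq_one_iff_commute, ← map_commutatorElement]
    exact (hf1 _ _).2 (mem_sup_left (hcomT x hx y hy))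
  have hNP : normalizer ((P : Subgroup (N ⧸ L)) : Set (N ⧸ L)) ≤ centralizer ((P : Subgroup (N ⧸ L)) : Set (N ⧸ L)) := by
    intro y hy
    have hyP : y ∈ (P : Subgroup (N ⧸ L)) := by
      obtain ⟨k, hk⟩ := exists_odd_pow y
      have h1 := HQ P P.isPGroup' S hTS hcardTS hSp (fun u hu => ⟨hSN hu, (hPmem _).2 ⟨u, hu, rfl⟩⟩)
        _ ((normalizer _).pow_mem hy _) hk
      have hz : IsPGroup 2 (zpowers y) := by
        obtain ⟨j, -, hj⟩ := (Nat.dvd_prime_pow Nat.prime_two).1 (orderOf_dvd_of_pow_eq_one h1)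
        exact IsPGroup.of_card (n := j) (by rw [Nat.card_zpowers, hj])
      have h2 := P.is_maximal' (P.isPGroup'.to_sup_of_normal_left' hz (zpowers_le.2 hy)) le_sup_left
      exact h2 ▸ mem_sup_right (mem_zpowers y)
    exact mem_centralizer_iff.2 fun a ha => hPab a ha y hyP
  have hR := MonoidHom.ker_transferSylow_isComplement' P hNP
  set R := (MonoidHom.transferSylow P hNP).ker with hRdef
  have hRcard : Nat.card R = (P : Subgroup (N ⧸ L)).index := hR.index_eq_card.symm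
  have hRodd : ∀ q ∈ R, Odd (orderOf q) := fun q hq => by
    have : Odd (Nat.card R) := Nat.not_even_iff_odd.1 fun h => P.not_dvd_index (hRcard ▸ h.two_dvd)
    exact this.of_dvd_nat (orderOf_dvd_natCard R hq)
  have hoddR : ∀ q : N ⧸ L, Odd (orderOf q) → q ∈ R := fun q hq => by
    rw [hRdef, MonoidHom.mem_ker]
    obtain ⟨j, hj⟩ := P.isPGroup' (MonoidHom.transferSylow P hNP q)
    exact eq_one_of_pow_two_pow (hq.of_dvd_nat (orderOf_map_dvd _ q)) hj
  have hfpf : ∀ x (hx : x ∈ (S : Subgroup G)), x ∉ T → ∀ q : N ⧸ L, Odd (orderOf q) →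
      Commute q (f ⟨x, hSN hx⟩) → q = 1 := by
    intro x hx hxT q hqo hqc
    have hU : T ⊔ zpowers x ≤ (S : Subgroup G) := sup_le hTS (zpowers_le.2 hx)
    have hlt' : T < T ⊔ zpowers x := lt_of_le_of_ne le_sup_left fun e =>
      hxT (e ▸ mem_sup_right (mem_zpowers x) : x ∈ T)
    refine HQ (zpowers (f ⟨x, hSN hx⟩)) ?_ (T ⊔ zpowers x) le_sup_left
      (lt_of_not_ge fun h => hlt'.ne (eq_of_le_of_card_ge hlt'.le h)) (hSp.to_le hU) (fun u hu => ?_) q ?_ hqo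
    · exact P.isPGroup'.to_le (zpowers_le.2 ((hPmem _).2 ⟨x, hx, rfl⟩))
    · refine ⟨hSN (hU hu), ?_⟩
      obtain ⟨hu', hh⟩ : ∃ h : u ∈ N, f ⟨u, h⟩ ∈ zpowers (f ⟨x, hSN hx⟩) := by
        have hle : T ⊔ zpowers x ≤ ((zpowers (f ⟨x, hSN hx⟩)).comap f).map N.subtype := by
          refine sup_le (fun t ht => ⟨⟨t, hTN ht⟩, ?_, rfl⟩) (zpowers_le.2 ⟨⟨x, hSN hx⟩, mem_zpowers _, rfl⟩)
          rw [SetLike.mem_coe, mem_comap, (hf1 _ _).2 (mem_sup_left ht)]
          exact one_mem _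
        obtain ⟨⟨v, hv⟩, hv', rfl⟩ := hle hu
        exact ⟨hv, hv'⟩
      exact hh
    · exact centralizer_le_normalizer _ (mem_centralizer_iff.2 fun a ha => by
        obtain ⟨i, rfl⟩ := mem_zpowers_iff.1 ha
        exact (hqc.zpow_right i).eq.symm)
  -- elements squaring into `T` invert
  have hinv : ∀ x (hx : x ∈ (S : Subgroup G)), x ∉ T → x ^ 2 ∈ T → ∀ q : N ⧸ L, Odd (orderOf q) →
      f ⟨x, hSN hx⟩ * q * (f ⟨x, hSN hx⟩)⁻¹ = q⁻¹ := by
    intro x hx hxT hx2 q hq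
    set s := f ⟨x, hSN hx⟩ with hs
    have hs2 : s * s = 1 := by
      rw [hs, ← map_mul, MulMemClass.mk_mul_mk, hf1, ← sq]
      exact mem_sup_left hx2
    let φ : R →* R := (MulAut.conjNormal s).toMonoidHom
    have hφ : ∀ v : R, (φ v : N ⧸ L) = s * v * s⁻¹ := fun v => MulAut.conjNormal_apply s v
    have h1 : MonoidHom.FixedPointFree φ := fun v hv => Subtype.ext (hfpf x hx hxT v (hRodd _ v.2) (by
      have h := (hφ v).symm.trans (congrArg Subtype.val hv)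
      exact (mul_inv_eq_iff_eq_mul.1 h).symm))
    have h2 : Function.Involutive φ := fun v => Subtype.ext (by
      rw [hφ, hφ, inv_eq_of_mul_eq_one_right hs2]
      calc s * (s * v * s) * s = (s * s) * v * (s * s) := by group
        _ = v := by rw [hs2, one_mul, mul_one])
    have h3 := congrArg Subtype.val (congrFun (MonoidHom.FixedPointFree.coe_eq_inv_of_involutive h1 h2) ⟨q, hoddR q hq⟩)
    rw [hφ] at h3
    simpa using h3
  have hprod : ∀ x ∈ (S : Subgroup G), ∀ y ∈ (S : Subgroup G), x ∉ T → y ∉ T → x ^ 2 ∈ T → y ^ 2 ∈ T →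
      x * y ∈ T := by
    intro x hx y hy hxT hyT hx2 hy2
    by_contra hxy
    refine hq₀1 (hfpf _ (mul_mem hx hy) hxy q₀ hq₀o ?_)
    have e1 := hinv x hx hxT hx2 q₀ hq₀o
    have e2 := hinv y hy hyT hy2 q₀ hq₀o
    set a := f ⟨x, hSN hx⟩
    set b := f ⟨y, hSN hy⟩
    rw [show (⟨x * y, hSN (mul_mem hx hy)⟩ : N) = ⟨x, hSN hx⟩ * ⟨y, hSN hy⟩ from rfl, map_mul]
    refine (mul_inv_eq_iff_eq_mul.1 ?_).symm
    rw [mul_inv_rev]
    calc a * b * q₀ * (b⁻¹ * a⁻¹) = a * (b * q₀ * b⁻¹) * a⁻¹ := by group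
      _ = (a * q₀ * a⁻¹)⁻¹ := by rw [e2]; group
      _ = q₀ := by rw [e1, inv_inv]
  -- an element squaring into `T`
  obtain ⟨s, hs, hsT, hs2⟩ : ∃ s ∈ (S : Subgroup G), s ∉ T ∧ s ^ 2 ∈ T := by
    obtain ⟨x, hx, hxT⟩ := SetLike.exists_of_lt hlt
    obtain ⟨k, hk⟩ := exists_pow_two_pow hSp hx
    have hex : ∃ j, x ^ 2 ^ j ∈ T := ⟨k, hk ▸ one_mem T⟩
    obtain ⟨j, hj⟩ : ∃ j, Nat.find hex = j + 1 := Nat.exists_eq_add_one.2 (Nat.pos_of_ne_zero fun e =>
      hxT (by simpa [e] using Nat.find_spec hex))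
    refine ⟨x ^ 2 ^ j, pow_mem hx _, Nat.find_min hex (by omega), ?_⟩
    rw [← pow_mul, ← pow_succ, ← hj]
    exact Nat.find_spec hex
  set Zt := T ⊓ C with hZt
  have hZc : ∀ m ∈ Zt, ∀ t ∈ T, Commute t m := fun m hm t ht => mem_centralizer_iff.1 hm.2 t ht
  have hZN : ∀ n ∈ N, ∀ m ∈ Zt, n * m * n⁻¹ ∈ Zt := fun n hn m hm =>
    ⟨(mem_normalizer_iff.1 hn m).1 hm.1, hNC n hn m hm.2⟩
  have hLZ : ∀ l ∈ T ⊔ C, ∀ m ∈ Zt, Commute l m := by
    intro l hl m hm
    obtain ⟨t, ht, c, hc, rfl⟩ := hdec l hl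
    exact (hZc m hm t ht).mul_left (mem_centralizer_iff.1 hc m hm.1).symm
  -- `g` moves `T` within its centre
  let K : Subgroup N :=
    { carrier := {n | ∀ t ∈ T, ⁅(n : G), t⁆ ∈ Zt}
      one_mem' := fun t _ => by simp [one_mem]
      mul_mem' := fun {a b} ha hb t ht => by
        rw [show ⁅((a * b : N) : G), t⁆ = (a : G) * ⁅(b : G), t⁆ * (a : G)⁻¹ * ⁅(a : G), t⁆ by
          rw [Subgroup.coe_mul, commutatorElement_def, commutatorElement_def, commutatorElement_def]; group]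
        exact Zt.mul_mem (hZN a a.2 _ (hb t ht)) (ha t ht)
      inv_mem' := fun {a} ha t ht => by
        rw [show ⁅((a⁻¹ : N) : G), t⁆ = (a : G)⁻¹ * ⁅(a : G), t⁆⁻¹ * ((a : G)⁻¹)⁻¹ by
          rw [Subgroup.coe_inv, commutatorElement_def, commutatorElement_def]; group]
        exact hZN _ (N.inv_mem a.2) _ (Zt.inv_mem (ha t ht)) }
  haveI hKn : K.Normal := ⟨fun a ha b t ht => by
    rw [show ⁅((b * a * b⁻¹ : N) : G), t⁆ = (b : G) * ⁅(a : G), (b : G)⁻¹ * t * b⁆ * (b : G)⁻¹ by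
      simp only [Subgroup.coe_mul, Subgroup.coe_inv, commutatorElement_def]; group]
    exact hZN b b.2 _ (ha _ (Grp.mem_conj_normalizer' b.2 ht))⟩
  have hSK : ∀ x (hx : x ∈ (S : Subgroup G)), (⟨x, hSN hx⟩ : N) ∈ K := fun x hx t ht =>
    ⟨hcomT x hx t (hTS ht), mem_centralizer_iff.2 fun u hu => hcl x hx t (hTS ht) u (hTS hu)⟩
  have hLK : ∀ x : N, (x : G) ∈ T ⊔ C → x ∈ K := by
    intro x hx
    obtain ⟨t, ht, c, hc, e⟩ := hdec x hx
    rw [show x = ⟨t, hTN ht⟩ * ⟨c, hCN hc⟩ from Subtype.ext e.symm]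
    refine K.mul_mem (hSK t (hTS ht)) fun u hu => ?_
    rw [show ⁅((⟨c, hCN hc⟩ : N) : G), u⁆ = 1 from
      commutatorElement_eq_one_iff_commute.2 (mem_centralizer_iff.1 hc u hu).symm]
    exact Zt.one_mem
  have hinvs : ∀ x (hx : x ∈ (S : Subgroup G)), x ∉ T → x ^ 2 ∈ T → x * g * x⁻¹ * g ∈ T ⊔ C := by
    intro x hx hxT hx2
    refine (hf1 _ (N.mul_mem (N.mul_mem (N.mul_mem (hSN hx) hgN) (N.inv_mem (hSN hx))) hgN)).1 ?_
    show f (⟨x, hSN hx⟩ * ⟨g, hgN⟩ * (⟨x, hSN hx⟩)⁻¹ * ⟨g, hgN⟩) = 1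
    rw [map_mul, map_mul, map_mul, map_inv, hinv x hx hxT hx2 _ hq₀o, inv_mul_cancel]
  have hgK : ∀ t ∈ T, ⁅g, t⁆ ∈ Zt := by
    set γ : N := ⟨g, hgN⟩ with hγ
    set σ : N := ⟨s, hSN hs⟩ with hσ
    have h1 : σ * γ * σ⁻¹ * γ⁻¹ ∈ K := by
      rw [mul_assoc σ γ, mul_assoc σ]
      exact K.mul_mem (hSK s hs) (hKn.conj_mem _ (K.inv_mem (hSK s hs)) γ)
    have h2 : σ * γ * σ⁻¹ * γ ∈ K := hLK _ (hinvs s hs hsT hs2)
    have h3 : γ ^ 2 ^ 1 ∈ K := by
      have h4 := K.mul_mem (K.inv_mem h1) h2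
      rwa [show (σ * γ * σ⁻¹ * γ⁻¹)⁻¹ * (σ * γ * σ⁻¹ * γ) = γ ^ 2 ^ 1 by
        rw [pow_one, sq]; group] at h4
    exact mem_of_odd hgmk h3
  have hgm : ∀ m ∈ Zt, g * m * g⁻¹ ∈ Zt := hZN g hgN
  have hfaith : ¬ ∀ m ∈ Zt, g * m * g⁻¹ = m := by
    intro hall
    refine hgC (mem_centralizer_iff.2 fun t ht => ?_)
    obtain ⟨k, hk⟩ := exists_pow_two_pow hTp (hgK t ht).1
    have := fixed_twist hgo (x := t) (c := ⁅g, t⁆) (by rw [commutatorElement_def]; group)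
      (hall _ (hgK t ht)) hk
    exact (commutatorElement_eq_one_iff_commute.1 this).symm
  have hact : ∀ x (hx : x ∈ (S : Subgroup G)), x ∉ T → x ^ 2 ∈ T → ∀ m ∈ Zt,
      x * (g * m * g⁻¹) * x⁻¹ = g⁻¹ * (x * m * x⁻¹) * g := by
    intro x hx hxT hx2 m hm
    have hl : Commute (g * (x * g * x⁻¹)) (x * m * x⁻¹) := by
      refine hLZ _ ?_ _ (hZN x (hSN hx) m hm)
      have h := Grp.mem_conj_normalizer (K := T ⊔ C) (a := g) ?_ (hinvs x hx hxT hx2)
      · simpa [mul_assoc] using h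
      · exact mem_normalizer_iff.2 fun y => by
          constructor
          · intro hy
            exact (hf1 _ (N.mul_mem (N.mul_mem hgN (sup_le hTN hCN hy)) (N.inv_mem hgN))).1 (by
              show f (⟨g, hgN⟩ * ⟨y, sup_le hTN hCN hy⟩ * (⟨g, hgN⟩)⁻¹) = 1
              rw [map_mul, map_mul, (hf1 _ _).2 hy, mul_one, map_inv, mul_inv_cancel])
          · intro hy
            have hyN : y ∈ N := by
              have := N.mul_mem (N.mul_mem (N.inv_mem hgN) (sup_le hTN hCN hy)) hgN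
              simpa [mul_assoc] using this
            refine (hf1 y hyN).1 ?_
            have h := (hf1 _ (sup_le hTN hCN hy)).2 hy
            rw [show (⟨g * y * g⁻¹, sup_le hTN hCN hy⟩ : N) = ⟨g, hgN⟩ * ⟨y, hyN⟩ * (⟨g, hgN⟩)⁻¹ from rfl,
              map_mul, map_mul, map_inv, mul_inv_eq_one] at h
            exact mul_eq_left.1 h
    calc x * (g * m * g⁻¹) * x⁻¹
        = g⁻¹ * ((g * (x * g * x⁻¹)) * (x * m * x⁻¹) * (g * (x * g * x⁻¹))⁻¹) * g := by group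
      _ = g⁻¹ * (x * m * x⁻¹) * g := by rw [hl.mul_inv_cancel]
  -- every element outside `T` squares into `T`
  have hsq : ∀ x ∈ (S : Subgroup G), x ^ 4 ∈ T → x ^ 2 ∈ T := by
    intro x hx hx4
    by_contra hx2
    refine hfaith ?_
    have hΩ : ∀ m ∈ Zt, m * m = 1 → x ^ 2 * m * (x ^ 2)⁻¹ = m := by
      intro m hm hmm
      set d := ⁅x, m⁆ with hd
      have e : x * m * x⁻¹ = d * m := by rw [hd, commutatorElement_def]; group
      have hdx : Commute x d := hcl x hx m (hTS hm.1) x hx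
      have hdm : Commute m d := hcl x hx m (hTS hm.1) m (hTS hm.1)
      have hdd : d * d = 1 := by
        have h : d * m * (d * m) = 1 := by rw [← e, conj_mul, hmm, mul_one, mul_inv_cancel]
        rwa [hdm.mul_mul_mul_comm, hmm, mul_one] at h
      calc x ^ 2 * m * (x ^ 2)⁻¹ = x * (x * m * x⁻¹) * x⁻¹ := by rw [sq]; group
        _ = x * d * x⁻¹ * (x * m * x⁻¹) := by rw [conj_mul, ← e]
        _ = d * (d * m) := by rw [hdx.mul_inv_cancel, e]
        _ = m := by rw [← mul_assoc, hdd, one_mul]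
    have hfix1 : ∀ m ∈ Zt, m * m = 1 → g * m * g⁻¹ = m := by
      intro m hm hmm
      have e := hact (x ^ 2) (pow_mem hx 2) hx2 (by rwa [← pow_mul]) m hm
      rw [hΩ m hm hmm, hΩ _ (hgm m hm) (by rw [conj_mul, hmm, mul_one, mul_inv_cancel])] at e
      refine (commute_of_sq hgo ?_).mul_inv_cancel
      show g ^ 2 * m = m * g ^ 2
      calc g ^ 2 * m = g * (g * m * g⁻¹) * g := by rw [sq]; group
        _ = g * (g⁻¹ * m * g) * g := by rw [e]
        _ = m * g ^ 2 := by rw [sq]; group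
    have key : ∀ k : ℕ, ∀ m ∈ Zt, m ^ 2 ^ k = 1 → g * m * g⁻¹ = m := by
      intro k
      induction k with
      | zero => intro m _ hmk; rw [pow_zero, pow_one] at hmk; simp [hmk]
      | succ k ih =>
        intro m hm hmk
        set c := g * m * g⁻¹ * m⁻¹ with hc
        have hcZ : c ∈ Zt := Zt.mul_mem (hgm m hm) (Zt.inv_mem hm)
        have e : g * m * g⁻¹ = c * m := by rw [hc]; group
        have hck : c ^ 2 ^ k = 1 := by
          have h1 := hfix1 (m ^ 2 ^ k) (Zt.pow_mem hm _) (by rw [← pow_add, ← two_mul, ← pow_succ']; exact hmk)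
          rw [← conj_pow, e, (hZc m hm c hcZ.1).mul_pow] at h1
          exact mul_eq_right.1 h1
        rw [e, fixed_twist hgo e (ih c hcZ hck) hck, one_mul]
    intro m hm
    obtain ⟨k, hk⟩ := exists_pow_two_pow hTp hm.1
    exact key k m hm hk
  have hsq2 : ∀ x ∈ (S : Subgroup G), x ^ 2 ∈ T := by
    intro x hx
    obtain ⟨k, hk⟩ := exists_pow_two_pow hSp hx
    have key : ∀ j, x ^ 2 ^ (j + 1) ∈ T → x ^ 2 ∈ T := by
      intro j
      induction j with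
      | zero => intro h; simpa using h
      | succ j ih =>
        intro h
        refine ih ?_
        have h1 := hsq (x ^ 2 ^ j) (pow_mem hx _) (by
          rw [← pow_mul, show 2 ^ j * 4 = 2 ^ (j + 1 + 1) by ring]; exact h)
        rwa [← pow_mul, ← pow_succ] at h1
    rcases k with _ | k
    · rw [pow_zero, pow_one] at hk; simp [hk]
    · exact key k (hk ▸ one_mem T)
  let W : Subgroup G :=
    { carrier := {w | ∃ m ∈ Zt, g * m * g⁻¹ * m⁻¹ = w}
      one_mem' := ⟨1, Zt.one_mem, by group⟩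
      mul_mem' := by
        rintro _ _ ⟨a, ha, rfl⟩ ⟨b, hb, rfl⟩
        refine ⟨a * b, Zt.mul_mem ha hb, ?_⟩
        have h1 : Commute (g * b * g⁻¹) a⁻¹ := (hZc a ha _ (hgm b hb).1).inv_right
        calc g * (a * b) * g⁻¹ * (a * b)⁻¹ = g * a * g⁻¹ * ((g * b * g⁻¹) * (b⁻¹ * a⁻¹)) := by group
          _ = g * a * g⁻¹ * (((g * b * g⁻¹) * a⁻¹) * b⁻¹) := by
            rw [((hZc a ha _ (T.inv_mem hb.1)).inv_right).eq]; group
          _ = _ := by rw [h1.eq]; group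
      inv_mem' := by
        rintro _ ⟨a, ha, rfl⟩
        refine ⟨a⁻¹, Zt.inv_mem ha, ?_⟩
        have h1 : Commute (g * a⁻¹ * g⁻¹) a := hZc a ha _ (hgm _ (Zt.inv_mem ha)).1
        rw [inv_inv, h1.eq]; group }
  have hWZ : W ≤ Zt := by
    rintro _ ⟨m, hm, rfl⟩
    exact Zt.mul_mem (hgm m hm) (Zt.inv_mem hm)
  have hfix : ∀ w ∈ W, g * w * g⁻¹ = w → w = 1 := by
    intro w hw h
    obtain ⟨k, hk⟩ := exists_pow_two_pow hTp (hWZ hw).1
    obtain ⟨m, hm, e⟩ := hw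
    exact fixed_twist hgo (x := m) (by rw [← e]; group) h hk
  have hsurj : ∀ w ∈ W, ∃ v ∈ W, g * v * g⁻¹ * v⁻¹ = w := by
    let ψ : W → W := fun v => ⟨g * v * g⁻¹ * (v : G)⁻¹, ⟨v, hWZ v.2, rfl⟩⟩
    have hψ : Function.Injective ψ := by
      intro a b hab
      have h : g * (a : G) * g⁻¹ * (a : G)⁻¹ = g * (b : G) * g⁻¹ * (b : G)⁻¹ := congrArg Subtype.val hab
      have hab' : (a : G)⁻¹ * b ∈ W := W.mul_mem (W.inv_mem a.2) b.2
      have h1 := hfix _ hab' (by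
        have k1 : g * (a : G) * g⁻¹ = g * (b : G) * g⁻¹ * ((b : G)⁻¹ * a) := by
          rw [← mul_assoc, ← h]; group
        calc g * ((a : G)⁻¹ * b) * g⁻¹ = (g * (a : G) * g⁻¹)⁻¹ * (g * b * g⁻¹) := by group
          _ = (a : G)⁻¹ * b := by rw [k1]; group)
      exact Subtype.ext (inv_mul_eq_one.1 h1)
    intro w hw
    obtain ⟨v, hv⟩ := Finite.injective_iff_surjective.1 hψ ⟨w, hw⟩
    exact ⟨v, v.2, congrArg Subtype.val hv⟩
  refine ⟨W, ?_⟩
  exact
  { le := hTS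
    two := hSp
    wle := hWZ.trans inf_le_left
    wc := fun w hw t ht => hZc w (hWZ hw) t ht
    wn := fun x hx w hw => by
      by_cases hxT : x ∈ T
      · rwa [(hZc w (hWZ hw) x hxT).mul_inv_cancel]
      obtain ⟨m, hm, rfl⟩ := hw
      have hm' : x * m * x⁻¹ ∈ Zt := hZN x (hSN hx) m hm
      have hm'' : g⁻¹ * (x * m * x⁻¹) * g ∈ Zt := by
        simpa using hZN g⁻¹ (N.inv_mem hgN) _ hm'
      have e : x * (g * m * g⁻¹ * m⁻¹) * x⁻¹ = (g * (g⁻¹ * (x * m * x⁻¹) * g) * g⁻¹ * (g⁻¹ * (x * m * x⁻¹) * g)⁻¹)⁻¹ := by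
        rw [show x * (g * m * g⁻¹ * m⁻¹) * x⁻¹ = x * (g * m * g⁻¹) * x⁻¹ * (x * m * x⁻¹)⁻¹ by group,
          hact x hx hxT (hsq2 x hx) m hm]
        group
      rw [e]
      exact W.inv_mem ⟨_, hm'', rfl⟩
    odd := hgo
    comm := fun t ht => by
      set c := g * t * g⁻¹ * t⁻¹ with hc
      have hcZ : c ∈ Zt := by rw [hc, ← commutatorElement_def]; exact hgK t ht
      obtain ⟨w, hw, ew⟩ := hsurj _ (⟨c, hcZ, rfl⟩ : g * c * g⁻¹ * c⁻¹ ∈ W)
      obtain ⟨v, hv, ev⟩ := hsurj w hw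
      have hwZ := hWZ hw
      have hvZ := hWZ hv
      have k1 : g * c * g⁻¹ = g * w * g⁻¹ * w⁻¹ * c := by rw [ew]; group
      have e1 : g * (c * w⁻¹) * g⁻¹ = c * w⁻¹ := by
        rw [← conj_mul, k1, show (g * w⁻¹ * g⁻¹) = (g * w * g⁻¹)⁻¹ by group]
        have h1 : Commute (g * w * g⁻¹) (w⁻¹ * c) :=
          hZc _ (Zt.mul_mem (Zt.inv_mem hwZ) hcZ) _ (hgm w hwZ).1
        rw [mul_assoc (g * w * g⁻¹), h1.eq, mul_inv_cancel_right, (hZc c hcZ w⁻¹ (T.inv_mem hwZ.1)).eq]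
      have e2 : g * (v⁻¹ * t) * g⁻¹ = c * w⁻¹ * (v⁻¹ * t) := by
        have k2 : g * v * g⁻¹ = w * v := by rw [← ev]; group
        calc g * (v⁻¹ * t) * g⁻¹ = (g * v * g⁻¹)⁻¹ * (g * t * g⁻¹ * t⁻¹) * t := by group
          _ = (w * v)⁻¹ * c * t := by rw [k2, hc]
          _ = c * (w * v)⁻¹ * t := by
            rw [(hZc c hcZ _ (T.inv_mem (T.mul_mem hwZ.1 hvZ.1))).eq]
          _ = _ := by rw [(hZc v hvZ w hwZ.1).eq]; group
      obtain ⟨k, hk⟩ := exists_pow_two_pow hTp (T.mul_mem hcZ.1 (T.inv_mem hwZ.1))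
      rw [mul_inv_eq_one.1 (fixed_twist hgo e2 e1 hk)]
      exact hw
    fix := hfix
    ne := fun h => hfaith fun m hm => by
      have : g * m * g⁻¹ * m⁻¹ ∈ W := ⟨m, hm, rfl⟩
      rw [h, Subgroup.mem_bot, mul_inv_eq_one] at this
      exact this
    idx := fun x hx y hy hxT hyT => hprod x hx y hy hxT hyT (hsq2 x hx) (hsq2 y hy)
    out := ⟨s, hs, hsT⟩
    inverts := fun x hx hxT m hm => hact x hx hxT (hsq2 x hx) m (hWZ hm) }

end Cfsg.Agent.Invol.ClassTwo
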