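import Cfsg.Agent.Lib.Transfer.Frobenius
import Cfsg.Agent.Lib.Invol.ClassTwo.Local

/-!
# A normal 2-complement criterion for Sylow 2-subgroups of class two, with operators

`A` has odd order and fixes the Sylow 2-subgroup `S` of class at most two. If no nontrivial
`A`-invariant normal subgroup of `S` admits a nontrivial automorphism of odd order from its
normalizer, the group has a normal 2-complement.
-/

set_option autoImplicit false
set_option maxHeartbeats 800000

namespace Cfsg.Agent.Invol.ClassTwo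

open scoped commutatorElement Pointwise
open Subgroup

variable {G : Type*} [Group G] [Finite G]

theorem IsTriple.map {S T W : Subgroup G} {r : G} (h : IsTriple S T W r) (e : G ≃* G)
    (hS : S.map e.toMonoidHom = S) :
    IsTriple S (T.map e.toMonoidHom) (W.map e.toMonoidHom) (e r) where
  le := hS ▸ Subgroup.map_mono h.le
  two := h.two
  wle := Subgroup.map_mono h.wle
  wc := by
    rintro _ ⟨w, hw, rfl⟩ _ ⟨t, ht, rfl⟩
    exact (h.wc w hw t ht).map e.toMonoidHom
  wn := by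
    intro x hx
    rw [← hS] at hx
    obtain ⟨x, hx, rfl⟩ := hx
    rintro _ ⟨w, hw, rfl⟩
    exact ⟨x * w * x⁻¹, h.wn x hx w hw, by simp⟩
  odd := by rw [MulEquiv.orderOf_eq]; exact h.odd
  comm := by
    rintro _ ⟨t, ht, rfl⟩
    exact ⟨r * t * r⁻¹ * t⁻¹, h.comm t ht, by simp⟩
  fix := by
    rintro _ ⟨w, hw, rfl⟩ hfix
    rw [h.fix w hw (e.injective (by simpa using hfix)), map_one]
  ne := fun hW => h.ne ((Subgroup.map_eq_bot_iff_of_injective _ e.injective).1 hW)
  idx := by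
    intro x hx y hy hxT hyT
    rw [← hS] at hx hy
    obtain ⟨x, hx, rfl⟩ := hx
    obtain ⟨y, hy, rfl⟩ := hy
    exact ⟨x * y, h.idx x hx y hy (fun hh => hxT ⟨x, hh, rfl⟩) (fun hh => hyT ⟨y, hh, rfl⟩), by simp⟩
  out := by
    obtain ⟨x, hx, hxT⟩ := h.out
    refine ⟨e x, hS ▸ ⟨x, hx, rfl⟩, ?_⟩
    rintro ⟨t, ht, he⟩
    exact hxT (e.injective he ▸ ht)
  inverts := by
    intro x hx hxT
    rw [← hS] at hx
    obtain ⟨x, hx, rfl⟩ := hx
    rintro _ ⟨m, hm, rfl⟩
    have := congrArg e (h.inverts x hx (fun hh => hxT ⟨x, hh, rfl⟩) m hm)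
    simpa using this

theorem hasNormalPComplement_of_classTwo {A : Type*} [Group A] [Finite A] [MulDistribMulAction A G]
    (hA : Odd (Nat.card A)) (S : Sylow 2 G)
    (hSA : ∀ a : A, ∀ x ∈ (S : Subgroup G), a • x ∈ (S : Subgroup G))
    (hcl : ∀ x ∈ (S : Subgroup G), ∀ y ∈ (S : Subgroup G), Cent (S : Subgroup G) ⁅x, y⁆)
    (hW : ∀ W : Subgroup G, W ≠ ⊥ → W ≤ (S : Subgroup G) → (∀ a : A, ∀ x ∈ W, a • x ∈ W) →
      (S : Subgroup G) ≤ normalizer (W : Set G) →
      ∀ y ∈ normalizer (W : Set G), Odd (orderOf y) → y ∈ centralizer (W : Set G)) :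
    Cfsg.HasNormalPComplement 2 G := by
  classical
  haveI : Fact (Nat.Prime 2) := ⟨Nat.prime_two⟩
  rw [Transfer.hasNormalPComplement_iff_frobeniusCondition S]
  intro Q hQ g hg hgc
  by_contra hgC
  obtain ⟨T₀, ⟨hT₀p, g₀, hg₀, hg₀o, hg₀C⟩, hmax₀⟩ := Set.exists_max_image
    {T : Subgroup G | IsPGroup 2 T ∧
      ∃ y ∈ normalizer (T : Set G), Odd (orderOf y) ∧ y ∉ centralizer (T : Set G)}
    (fun T => Nat.card T) (Set.toFinite _)
    ⟨Q, S.isPGroup'.to_le hQ, g, hg, Nat.coprime_two_right.1 hgc, hgC⟩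
  -- move it into `S`
  obtain ⟨S', hS'⟩ := hT₀p.exists_le_sylow
  obtain ⟨c, hc⟩ := MulAction.exists_smul_eq G S' S
  set T := MulAut.conj c • T₀ with hT
  have hTS : T ≤ (S : Subgroup G) := by
    rw [← hc, Sylow.coe_subgroup_smul]
    exact Subgroup.pointwise_smul_le_pointwise_smul_iff.mpr hS'
  have hTcard : Nat.card T = Nat.card T₀ := Subgroup.card_map_of_injective (MulAut.conj c).injective
  have hmax : ∀ U : Subgroup G, IsPGroup 2 U → Nat.card T < Nat.card U →
      ∀ y ∈ normalizer (U : Set G), Odd (orderOf y) → y ∈ centralizer (U : Set G) := by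
    intro U hU hlt y hy hyo
    by_contra hyC
    exact absurd (hmax₀ U ⟨hU, y, hy, hyo, hyC⟩) (by rw [hTcard] at hlt; exact not_le.2 hlt)
  set g₁ := c * g₀ * c⁻¹ with hg₁
  have hg₁N : g₁ ∈ normalizer (T : Set G) := by
    rw [Grp.mem_normalizer_iff_smul, hT, Grp.conj_smul_conj_smul, show g₁ * c = c * g₀ by rw [hg₁]; group,
      ← Grp.conj_smul_conj_smul, Grp.mem_normalizer_iff_smul.mp hg₀]
  have hg₁o : Odd (orderOf g₁) := by
    rwa [hg₁, show c * g₀ * c⁻¹ = MulAut.conj c g₀ from rfl, MulEquiv.orderOf_eq]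
  have hg₁C : g₁ ∉ centralizer (T : Set G) := fun h => hg₀C (mem_centralizer_iff.2 fun t ht => by
    have h1 := mem_centralizer_iff.1 h (c * t * c⁻¹) (by
      rw [SetLike.mem_coe, hT, Grp.mem_smul_conj]
      simpa [mul_assoc] using ht)
    rw [hg₁] at h1
    calc t * g₀ = c⁻¹ * ((c * t * c⁻¹) * (c * g₀ * c⁻¹)) * c := by group
      _ = c⁻¹ * ((c * g₀ * c⁻¹) * (c * t * c⁻¹)) * c := by rw [h1]
      _ = g₀ * t := by group)
  have hS0 : (S : Subgroup G) ≠ ⊥ := fun h => hg₁C (mem_centralizer_iff.2 fun t ht => by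
    have ht' : t ∈ (⊥ : Subgroup G) := h ▸ hTS ht
    rw [Subgroup.mem_bot.1 ht', one_mul, mul_one])
  have hne : T ≠ (S : Subgroup G) := fun h => hg₁C (by
    rw [h] at hg₁N ⊢
    exact hW S hS0 le_rfl hSA le_normalizer g₁ hg₁N hg₁o)
  obtain ⟨W, hL⟩ := local_triple S hcl hTS hne hg₁N hg₁o hg₁C hmax
  let e : A → G ≃* G := fun a => MulDistribMulAction.toMulAut A G a
  have hSe : ∀ a, (S : Subgroup G).map (e a).toMonoidHom = (S : Subgroup G) := fun a => by
    ext x
    constructor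
    · rintro ⟨y, hy, rfl⟩
      exact hSA a y hy
    · exact fun hx => ⟨a⁻¹ • x, hSA a⁻¹ x hx, smul_inv_smul a x⟩
  by_cases hall : ∀ a, W.map (e a).toMonoidHom ≤ T
  · -- the invariant closure of `W` lies in `T`
    let W' := Subgroup.closure {x : G | ∃ a : A, ∃ w ∈ W, a • w = x}
    have hWW' : W ≤ W' := fun w hw => Subgroup.subset_closure ⟨1, w, hw, one_smul A w⟩
    have hW'T : W' ≤ T := (Subgroup.closure_le _).2 (by
      rintro _ ⟨a, w, hw, rfl⟩
      exact hall a ⟨w, hw, rfl⟩)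
    have hW'A : ∀ a : A, ∀ x ∈ W', a • x ∈ W' := fun a => by
      have hle : W' ≤ W'.comap (e a).toMonoidHom := (Subgroup.closure_le _).2 (by
        rintro _ ⟨b, w, hw, rfl⟩
        exact Subgroup.subset_closure ⟨a * b, w, hw, mul_smul a b w⟩)
      exact fun x hx => hle hx
    have hW'S : (S : Subgroup G) ≤ normalizer (W' : Set G) := Grp.invariant_iff.mp fun x hx y hy => by
      have hle : W' ≤ W'.comap (MulAut.conj x).toMonoidHom := (Subgroup.closure_le _).2 (by
        rintro _ ⟨b, w, hw, rfl⟩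
        refine Subgroup.subset_closure ⟨b, _, hL.wn (b⁻¹ • x) (hSA _ x hx) w hw, ?_⟩
        simp [smul_mul'])
      exact hle hy
    have hgW' : g₁ ∈ normalizer (W' : Set G) := Subgroup.mem_normalizer_fintype fun y hy => by
      have h1 := W'.mul_mem (hWW' (hL.comm y (hW'T hy))) hy
      simpa [mul_assoc] using h1
    have hne' : W' ≠ ⊥ := fun h => hL.ne (le_bot_iff.1 (h ▸ hWW'))
    have hc' := hW W' hne' (hW'T.trans hTS) hW'A hW'S g₁ hgW' hg₁o
    refine hL.ne ((Subgroup.eq_bot_iff_forall _).2 fun w hw => hL.fix w hw ?_)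
    have := mem_centralizer_iff.1 hc' w (hWW' hw)
    exact mul_inv_eq_iff_eq_mul.2 this.symm
  push Not at hall
  obtain ⟨a, ha⟩ := hall
  have hmap : ∀ (X : Subgroup G) (b b' : A),
      (X.map (e b').toMonoidHom).map (e b).toMonoidHom = X.map (e (b * b')).toMonoidHom := fun X b b' => by
    rw [Subgroup.map_map]
    congr 1
    ext x
    exact (mul_smul b b' x).symm
  have hone : ∀ X : Subgroup G, X.map (e 1).toMonoidHom = X := fun X => by
    conv_rhs => rw [← Subgroup.map_id X]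
    congr 1
    ext x
    exact one_smul A x
  have h₂ := hL.map (e a) (hSe a)
  have h₃ := hL.map (e a⁻¹) (hSe a⁻¹)
  have hsym : ¬ W ≤ T.map (e a).toMonoidHom := collision_symm hL h₂ ha
  have ha' : ¬ W.map (e a⁻¹).toMonoidHom ≤ T := fun h => hsym (by
    have := Subgroup.map_mono (f := (e a).toMonoidHom) h
    rwa [hmap, mul_inv_cancel, hone] at this)
  have hTT := collision_unique hcl hL h₂ h₃ ha ha'
  have hsq : T.map (e (a * a)).toMonoidHom = T := by
    rw [← hmap, hTT, hmap, mul_inv_cancel, hone]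
  have hpow : ∀ n : ℕ, T.map (e ((a * a) ^ n)).toMonoidHom = T := by
    intro n
    induction n with
    | zero => rw [pow_zero, hone]
    | succ n ih => rw [pow_succ, ← hmap, hsq, ih]
  obtain ⟨m, hm⟩ := hA
  have haa : (a * a) ^ (m + 1) = a := by
    rw [← sq, ← pow_mul, show 2 * (m + 1) = Nat.card A + 1 by omega, pow_succ, pow_card_eq_one', one_mul]
  have hTa := hpow (m + 1)
  rw [haa] at hTa
  exact ha (h₂.wle.trans hTa.le)

end Cfsg.Agent.Invol.ClassTwo
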