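import Cfsg.Agent.S0205
import Cfsg.Agent.S0117
import Cfsg.Agent.S4381
import Cfsg.Agent.Lib.Invol.ZJFunctor
import Cfsg.Agent.Lib.Grp.FpfPrime
import Cfsg.Agent.Lib.Char.StarConstruction
import Cfsg.Agent.Lib.OddUse.InvariantMax
import Cfsg.Agent.Lib.Invol.ClassTwo.Criterion

/-!
# A nilpotent maximal invariant subgroup with Sylow 2-subgroup of class at most two
-/

set_option autoImplicit false
set_option maxHeartbeats 1000000

namespace Cfsg.Agent.Invol.ClassTwo

open scoped commutatorElement Pointwise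
open Subgroup

universe u

variable {A : Type*} [Group A] [Finite A]

theorem commute_of_nilpotent {G : Type u} [Group G] [Finite G] {M : Subgroup G} (hM : Group.IsNilpotent M)
    {x y : G} (hx : x ∈ M) (hy : y ∈ M) (h : (orderOf x).Coprime (orderOf y)) : Commute x y :=
  congrArg Subtype.val (Cfsg.Agent.Char.Star.commute_of_coprime_order (E := M) hM (x := ⟨x, hx⟩) (y := ⟨y, hy⟩)
    (by rwa [Subgroup.orderOf_mk, Subgroup.orderOf_mk]))

/-- The Sylow subgroup for `p` of a nilpotent maximal invariant subgroup without invariant normal part. -/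
theorem sylow_data {G : Type u} [Group G] [Finite G] [MulDistribMulAction A G] {M : Subgroup G}
    (hMinv : ∀ a : A, ∀ x ∈ M, a • x ∈ M)
    (hMmax : ∀ H : Subgroup G, M ≤ H → H ≠ ⊤ → (∀ a : A, ∀ x ∈ H, a • x ∈ H) → H = M)
    (hnil : Group.IsNilpotent M)
    (hcore : ∀ W : Subgroup G, W.Normal → W ≤ M → (∀ a : A, ∀ x ∈ W, a • x ∈ W) → W = ⊥)
    (p : ℕ) [hp : Fact p.Prime] (hpM : p ∣ Nat.card M) :
    ∃ P : Sylow p G, (P : Subgroup G) ≤ M ∧ (P : Subgroup G) ≠ ⊥ ∧
      M ≤ normalizer ((P : Subgroup G) : Set G) ∧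
      (∀ a : A, ∀ x ∈ (P : Subgroup G), a • x ∈ (P : Subgroup G)) ∧
      ∀ W : Subgroup G, W ≠ ⊥ → W ≤ M → (∀ a : A, ∀ x ∈ W, a • x ∈ W) →
        M ≤ normalizer (W : Set G) → normalizer (W : Set G) = M := by
  have hN : ∀ W : Subgroup G, W ≠ ⊥ → W ≤ M → (∀ a : A, ∀ x ∈ W, a • x ∈ W) →
      M ≤ normalizer (W : Set G) → normalizer (W : Set G) = M := fun W hW hWM hWA hMW =>
    hMmax _ hMW (fun h => hW (hcore W (Subgroup.normalizer_eq_top_iff.1 h) hWM hWA))
      (OddUse.normalizer_invariant hWA)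
  obtain ⟨R⟩ : Nonempty (Sylow p M) := inferInstance
  haveI hRn : (R : Subgroup M).Normal := Grp.isNilpotent_iff_sylow_normal.1 hnil p inferInstance R
  haveI := Sylow.unique_of_normal R hRn
  set X := (R : Subgroup M).map M.subtype with hX
  have hXp : IsPGroup p X := R.isPGroup'.map _
  have hXM : X ≤ M := map_subtype_le _
  have hall : ∀ x ∈ M, IsPGroup p (zpowers x) → x ∈ X := by
    intro x hx hxp
    obtain ⟨R', hR'⟩ := (show IsPGroup p ((zpowers x).subgroupOf M) from hxp.comap_subtype).exists_le_sylow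
    rw [Subsingleton.elim R' R] at hR'
    exact ⟨⟨x, hx⟩, hR' (mem_subgroupOf.2 (mem_zpowers x)), rfl⟩
  have hXA : ∀ a : A, ∀ x ∈ X, a • x ∈ X := fun a x hx => hall _ (hMinv a x (hXM hx)) (by
    have h1 := (hXp.to_le (zpowers_le.2 hx)).map (MulDistribMulAction.toMulAut A G a).toMonoidHom
    rw [MonoidHom.map_zpowers] at h1
    exact h1)
  have hMX : M ≤ normalizer (X : Set G) := Grp.invariant_iff.mp fun m hm x hx => hall _
    (M.mul_mem (M.mul_mem hm (hXM hx)) (M.inv_mem hm)) (by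
    have h1 := (hXp.to_le (zpowers_le.2 hx)).map (MulAut.conj m).toMonoidHom
    rw [MonoidHom.map_zpowers] at h1
    exact h1)
  have hX0 : X ≠ ⊥ := fun h => R.ne_bot_of_dvd_card hpM
    ((Subgroup.map_eq_bot_iff_of_injective _ M.subtype_injective).1 h)
  obtain ⟨P, hP⟩ := hXp.exists_le_sylow
  have hPX : (P : Subgroup G) = X := by
    refine le_antisymm ?_ hP
    by_contra hle
    have hlt : X < (P : Subgroup G) := lt_of_le_of_ne hP fun h => hle h.ge
    obtain ⟨x, hx, hxX⟩ := SetLike.exists_of_lt (Transfer.lt_inf_normalizer P hlt)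
    exact hxX (hall x (hN X hX0 hXM hXA hMX ▸ hx.2) (P.isPGroup'.to_le (zpowers_le.2 hx.1)))
  exact ⟨P, hPX ▸ hXM, hPX ▸ hX0, hPX ▸ hMX, hPX ▸ hXA, hN⟩

/-- Solvability in the case without invariant normal subgroups inside `M`. -/
theorem isSolvable_coreFree {G : Type u} [Group G] [Finite G] [MulDistribMulAction A G]
    (hcop : (Nat.card A).Coprime (Nat.card G)) {M : Subgroup G} (hMtop : M ≠ ⊤)
    (hMinv : ∀ a : A, ∀ x ∈ M, a • x ∈ M)
    (hMmax : ∀ H : Subgroup G, M ≤ H → H ≠ ⊤ → (∀ a : A, ∀ x ∈ H, a • x ∈ H) → H = M)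
    (hnil : Group.IsNilpotent M)
    (hcl : ∀ x ∈ M, ∀ y ∈ M, ∀ z ∈ M, (∃ k, x ^ 2 ^ k = 1) → (∃ k, y ^ 2 ^ k = 1) → (∃ k, z ^ 2 ^ k = 1) →
      Commute z ⁅x, y⁆)
    (hcore : ∀ W : Subgroup G, W.Normal → W ≤ M → (∀ a : A, ∀ x ∈ W, a • x ∈ W) → W = ⊥) :
    Group.IsSolvable G := by
  haveI : Fact (Nat.Prime 2) := ⟨Nat.prime_two⟩
  rcases Nat.even_or_odd (Nat.card G) with heven | hodd
  swap
  · exact S0205.result hodd
  have hAodd : Odd (Nat.card A) := (Nat.even_or_odd _).resolve_left fun h => by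
    have := Nat.eq_one_of_dvd_coprimes hcop h.two_dvd heven.two_dvd
    omega
  rcases Nat.even_or_odd (Nat.card M) with hMeven | hModd
  · -- the 2-part
    obtain ⟨S, hSM, -, hMS, hSA, hN⟩ := sylow_data hMinv hMmax hnil hcore 2 hMeven.two_dvd
    have hc : Cfsg.HasNormalPComplement 2 G := by
      refine hasNormalPComplement_of_classTwo hAodd S hSA (fun x hx y hy z hz => hcl x (hSM hx) y (hSM hy) z (hSM hz)
        (exists_pow_two_pow S.isPGroup' hx) (exists_pow_two_pow S.isPGroup' hy)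
        (exists_pow_two_pow S.isPGroup' hz)) fun W hW0 hWS hWA hSW y hy hyo => ?_
      have hMW : M ≤ normalizer (W : Set G) := by
        refine le_trans (le_inf le_rfl (Grp.le_of_forall_sylow (H := M ⊓ normalizer (W : Set G)) inf_le_left
          fun q hq => ?_)) (inf_le_right.trans inf_le_right)
        haveI := hq
        by_cases hq2 : q = 2
        · subst hq2
          refine ⟨S, ⟨hSM, S.isPGroup', fun hd => S.not_dvd_index (hd.trans ?_)⟩, le_inf hSM hSW⟩
          exact Subgroup.relIndex_dvd_index_of_le hSM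
        · obtain ⟨X, hX⟩ := Grp.exists_isSylowIn q M
          refine ⟨X, hX, le_inf hX.1 fun x hx => centralizer_le_normalizer _ (mem_centralizer_iff.2 fun w hw => ?_)⟩
          obtain ⟨i, hi⟩ := (IsPGroup.iff_orderOf.1 hX.2.1) ⟨x, hx⟩
          obtain ⟨j, hj⟩ := exists_pow_two_pow S.isPGroup' (hWS hw)
          rw [Subgroup.orderOf_mk] at hi
          refine (commute_of_nilpotent hnil (hSM (hWS hw)) (hX.1 hx) ?_).eq
          rw [hi]
          exact Nat.Coprime.coprime_dvd_left (orderOf_dvd_of_pow_eq_one hj)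
            (Nat.Coprime.pow j i ((Nat.coprime_primes Nat.prime_two hq.out).2 (Ne.symm hq2)))
      have hyM : y ∈ M := hN W hW0 (hWS.trans hSM) hWA hMW ▸ hy
      refine mem_centralizer_iff.2 fun w hw => ?_
      obtain ⟨j, hj⟩ := exists_pow_two_pow S.isPGroup' (hWS hw)
      exact (commute_of_nilpotent hnil (hSM (hWS hw)) hyM
        (Nat.Coprime.coprime_dvd_left (orderOf_dvd_of_pow_eq_one hj)
          (Nat.Coprime.pow_left j hyo.coprime_two_left))).eq
    haveI : Group.IsSolvable (Cfsg.pResidual 2 G) := S0205.result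
      (Nat.not_even_iff_odd.1 fun h => Transfer.hasNormalPComplement_iff_not_dvd.1 hc h.two_dvd)
    haveI := (Transfer.isPGroup_quotient_pResidual (G := G) 2).isNilpotent
    exact solvable_of_ker_le_range (Cfsg.pResidual 2 G).subtype (QuotientGroup.mk' (Cfsg.pResidual 2 G))
      (by rw [QuotientGroup.ker_mk', Subgroup.range_subtype])
  -- `M` of odd order: `M` has a normal complement `K`
  have hnpc : ∀ p : ℕ, p.Prime → p ∣ Nat.card M → Cfsg.HasNormalPComplement p G := by
    intro p hp hpM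
    haveI := Fact.mk hp
    have hp2 : p ≠ 2 := fun h => by
      subst h
      exact (Nat.not_even_iff_odd.2 hModd) (even_iff_two_dvd.2 hpM)
    obtain ⟨P, hPM, hP0, hMP, hPA, hN⟩ := sylow_data hMinv hMmax hnil hcore p hpM
    set Z := Cfsg.centerThompsonOf p (P : Subgroup G) with hZ
    have hmapZ : ∀ e : G ≃* G, (P : Subgroup G).map e.toMonoidHom = P → Z.map e.toMonoidHom = Z := fun e he => by
      have h := Cfsg.Agent.Invol.centerEl_map (p := p) e.toMonoidHom (P : Subgroup G)
        (fun y _ hy => e.injective (by rw [map_one]; exact hy))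
      rwa [he] at h
    have hZA : ∀ a : A, ∀ x ∈ Z, a • x ∈ Z := fun a x hx =>
      hmapZ _ (OddUse.map_invariant hPA a) ▸ ⟨x, hx, rfl⟩
    have hMZ : M ≤ normalizer (Z : Set G) := fun m hm => Grp.mem_normalizer_iff_smul.mpr
      (hmapZ (MulAut.conj m) (Grp.mem_normalizer_iff_smul.mp (hMP hm)))
    have hZ0 : Z ≠ ⊥ := Cfsg.Agent.Invol.isZJFunctor_centerEl.ne_bot P.isPGroup' hP0
    have hNZ : normalizer (Z : Set G) = M :=
      hN Z hZ0 ((Cfsg.Agent.Invol.centerEl_le _).trans hPM) hZA hMZ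
    exact (Cfsg.Agent.S0117.result hp2 P).2 (by
      rw [← hZ, hNZ]
      exact Cfsg.Agent.Grp.hasNormalPComplement_of_nilpotent hnil)
  let K : Subgroup G := ⨅ p : {p : ℕ // p.Prime ∧ p ∣ Nat.card M}, Cfsg.pResidual p.1 G
  haveI hKn : K.Normal := Subgroup.normal_iInf_normal fun p => Transfer.instNormalPResidual p.1
  have hKA : ∀ a : A, ∀ x ∈ K, a • x ∈ K := fun a x hx => mem_iInf.2 fun p =>
    Transfer.pResidual_map_le (MulDistribMulAction.toMulAut A G a).toMonoidHom ⟨x, mem_iInf.1 hx p, rfl⟩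
  have hcopKM : (Nat.card M).Coprime (Nat.card K) := by
    refine Nat.coprime_of_dvd fun q hq hqM hqK => ?_
    haveI := Fact.mk hq
    obtain ⟨⟨x, hxK⟩, hx⟩ := exists_prime_orderOf_dvd_card' q hqK
    rw [Subgroup.orderOf_mk] at hx
    have h1 := (Transfer.mem_pResidual_iff (hnpc q hq hqM)).1 (mem_iInf.1 hxK ⟨q, hq, hqM⟩)
    rw [hx, Nat.coprime_self] at h1
    exact hq.ne_one h1
  have h2K : ∀ x : G, (∃ k, x ^ 2 ^ k = 1) → x ∈ K := by
    rintro x ⟨k, hk⟩
    refine mem_iInf.2 fun ⟨p, hp, hpM⟩ => Transfer.mem_pResidual_of_coprime ?_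
    have hp2 : p ≠ 2 := fun h => by
      subst h
      exact (Nat.not_even_iff_odd.2 hModd) (even_iff_two_dvd.2 hpM)
    exact Nat.Coprime.coprime_dvd_left (orderOf_dvd_of_pow_eq_one hk)
      (Nat.Coprime.pow_left k ((Nat.coprime_primes Nat.prime_two hp).2 (Ne.symm hp2)))
  -- an invariant Sylow 2-subgroup of `K` normalized by `M`
  let φ : A →* MulAut G := MulDistribMulAction.toMulAut A G
  let iG : G →* G ⋊[φ] A := SemidirectProduct.inl
  let iA : A →* G ⋊[φ] A := SemidirectProduct.inr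
  haveI : Finite (G ⋊[φ] A) := Finite.of_equiv _ SemidirectProduct.equivProd.symm
  have hinj : Function.Injective iG := SemidirectProduct.inl_injective
  have haut : ∀ (a : A) (x : G), iG (a • x) = iA a * iG x * (iA a)⁻¹ := fun a x => by
    rw [← map_inv iA]; exact SemidirectProduct.inl_aut (φ := φ) a x
  have hnormA : ∀ H : Subgroup G, (∀ a : A, ∀ x ∈ H, a • x ∈ H) →
      iA.range ≤ normalizer ((H.map iG : Subgroup (G ⋊[φ] A)) : Set (G ⋊[φ] A)) := fun H hH => by
    rintro _ ⟨a, rfl⟩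
    exact Subgroup.mem_normalizer_fintype fun d hd => by
      obtain ⟨x, hx, rfl⟩ := hd
      exact ⟨a • x, hH a x hx, haut a x⟩
  have cA : Nat.card iA.range = Nat.card A :=
    Nat.card_congr (MonoidHom.ofInjective SemidirectProduct.inr_injective).symm.toEquiv
  have cM : Nat.card (M.map iG) = Nat.card M := Subgroup.card_map_of_injective hinj
  have hcopAM : (Nat.card A).Coprime (Nat.card M) :=
    hcop.coprime_dvd_right (Subgroup.card_subgroup_dvd_card M)
  set B := iA.range ⊔ M.map iG with hB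
  have cB : Nat.card B = Nat.card A * Nat.card M := by
    rw [hB, Grp.card_sup_coprime (hnormA M hMinv) (by rw [cA, cM]; exact hcopAM), cA, cM]
  have hBK : B ≤ normalizer ((K.map iG : Subgroup (G ⋊[φ] A)) : Set (G ⋊[φ] A)) := by
    refine sup_le (hnormA K hKA) ?_
    rintro _ ⟨m, hm, rfl⟩
    exact Subgroup.mem_normalizer_fintype fun d hd => by
      obtain ⟨x, hx, rfl⟩ := hd
      exact ⟨m * x * m⁻¹, hKn.conj_mem x hx m, by simp⟩
  have hcopB : (Nat.card B).Coprime (Nat.card (K.map iG)) := by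
    rw [cB, Subgroup.card_map_of_injective hinj]
    exact Nat.Coprime.mul_left (hcop.coprime_dvd_right (Subgroup.card_subgroup_dvd_card K)) hcopKM
  have hBsol : Group.IsSolvable B := S0205.result (by rw [cB]; exact hAodd.mul hModd)
  obtain ⟨X, hX, hXB⟩ := Grp.exists_invariant_sylow B (K.map iG) hBK hcopB (Or.inl hBsol) 2
  set Q := X.comap iG with hQ
  have hXK : X ≤ K.map iG := hX.1
  have hXQ : Q.map iG = X :=
    Subgroup.map_comap_eq_self (hXK.trans (Subgroup.map_le_range iG K))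
  have hQp : IsPGroup 2 Q := fun q => by
    obtain ⟨k, hk⟩ := hX.2.1 ⟨iG q, q.2⟩
    refine ⟨k, Subtype.ext (hinj ?_)⟩
    simpa using congrArg Subtype.val hk
  have hQA : ∀ a : A, ∀ x ∈ Q, a • x ∈ Q := fun a x hx => by
    show iG (a • x) ∈ X
    rw [haut]
    exact Grp.mem_conj_normalizer (hXB (Subgroup.mem_sup_left ⟨a, rfl⟩)) hx
  have hMQ : M ≤ normalizer (Q : Set G) := Grp.invariant_iff.mp fun m hm x hx => by
    show iG (m * x * m⁻¹) ∈ X
    rw [map_mul, map_mul, map_inv]
    exact Grp.mem_conj_normalizer (hXB (Subgroup.mem_sup_right ⟨m, hm, rfl⟩)) hx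
  have hQ0 : Q ≠ ⊥ := by
    intro h
    obtain ⟨x, hx⟩ := exists_prime_orderOf_dvd_card' 2 heven.two_dvd
    have hxK : x ∈ K := h2K x ⟨1, by rw [pow_one, ← hx, pow_orderOf_eq_one]⟩
    refine hX.2.2 ?_
    rw [← hXQ, h, Subgroup.map_bot, Subgroup.relIndex_bot_left, Subgroup.card_map_of_injective hinj, ← hx]
    exact Subgroup.orderOf_dvd_natCard K hxK
  have hQM : ¬ Q ≤ M := fun h => by
    obtain ⟨k, hk⟩ := IsPGroup.iff_card.1 hQp
    refine hQ0 (Subgroup.card_eq_one.1 ?_)
    have h2 : Nat.card Q ∣ Nat.card M := Subgroup.card_dvd_of_le h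
    rcases k with _ | k
    · simpa using hk
    · exact absurd (hModd.of_dvd_nat h2) (by rw [hk]; simp [Nat.even_pow])
  have hQn : Q.Normal := by
    rw [← Subgroup.normalizer_eq_top_iff]
    by_contra h
    exact hQM (hMmax _ hMQ h (OddUse.normalizer_invariant hQA) ▸ le_normalizer)
  have htop : M ⊔ Q = ⊤ := by
    by_contra h
    exact hQM (hMmax _ le_sup_left h (OddUse.sup_invariant hMinv hQA) ▸ le_sup_right)
  haveI := hQn
  haveI := hQp.isNilpotent
  haveI := hnil
  haveI : Group.IsSolvable (G ⧸ Q) := by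
    refine solvable_of_surjective (f := (QuotientGroup.mk' Q).comp M.subtype) fun y => ?_
    obtain ⟨x, rfl⟩ := QuotientGroup.mk'_surjective Q y
    obtain ⟨m, hm, q, hq, rfl⟩ := Subgroup.mem_sup_of_normal_right.1 (htop.ge (Subgroup.mem_top x))
    refine ⟨⟨m, hm⟩, ?_⟩
    rw [map_mul, (QuotientGroup.eq_one_iff q).2 hq |> fun h => (show QuotientGroup.mk' Q q = 1 from h), mul_one]
    rfl
  exact solvable_of_ker_le_range Q.subtype (QuotientGroup.mk' Q)
    (by rw [QuotientGroup.ker_mk', Subgroup.range_subtype])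

/-- A group with a nilpotent maximal invariant subgroup whose 2-elements generate class at most two
is solvable. -/
theorem isSolvable_of_maximal :
    ∀ (n : ℕ) (G : Type u) [Group G] [Finite G] [MulDistribMulAction A G], Nat.card G = n →
      (Nat.card A).Coprime (Nat.card G) → ∀ M : Subgroup G, M ≠ ⊤ → (∀ a : A, ∀ x ∈ M, a • x ∈ M) →
      (∀ H : Subgroup G, M ≤ H → H ≠ ⊤ → (∀ a : A, ∀ x ∈ H, a • x ∈ H) → H = M) → Group.IsNilpotent M →
      (∀ x ∈ M, ∀ y ∈ M, ∀ z ∈ M, (∃ k, x ^ 2 ^ k = 1) → (∃ k, y ^ 2 ^ k = 1) → (∃ k, z ^ 2 ^ k = 1) →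
        Commute z ⁅x, y⁆) →
      Group.IsSolvable G := by
  intro n
  induction n using Nat.strong_induction_on with
  | _ n IH =>
  intro G _ _ _ hn hcop M hMtop hMinv hMmax hnil hcl
  by_cases hW : ∃ W : Subgroup G, W.Normal ∧ W ≤ M ∧ (∀ a : A, ∀ x ∈ W, a • x ∈ W) ∧ W ≠ ⊥
  swap
  · push Not at hW
    exact isSolvable_coreFree hcop hMtop hMinv hMmax hnil hcl hW
  obtain ⟨W, hWn, hWM, hWA, hW0⟩ := hW
  haveI := hWn
  haveI : Group.IsNilpotent W := by
    haveI := hnil
    exact Group.nilpotent_of_mulEquiv (Subgroup.subgroupOfEquivOfLe hWM)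
  let ψ : A →* MulAut (G ⧸ W) :=
    { toFun := fun a => QuotientGroup.congr W W (MulDistribMulAction.toMulAut A G a) (OddUse.map_invariant hWA a)
      map_one' := by
        ext x
        induction x using QuotientGroup.induction_on with
        | _ g => exact congrArg (QuotientGroup.mk (s := W)) (one_smul A g)
      map_mul' := fun a b => by
        ext x
        induction x using QuotientGroup.induction_on with
        | _ g => exact congrArg (QuotientGroup.mk (s := W)) (mul_smul a b g) }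
  letI : MulDistribMulAction A (G ⧸ W) := MulDistribMulAction.compHom (G ⧸ W) ψ
  have hsm : ∀ (a : A) (g : G), a • (g : G ⧸ W) = ((a • g : G) : G ⧸ W) := fun a g => rfl
  set π := QuotientGroup.mk' W with hπ
  have hlt : Nat.card (G ⧸ W) < Nat.card G := by
    rw [Subgroup.card_eq_card_quotient_mul_card_subgroup W]
    exact lt_mul_of_one_lt_right Nat.card_pos ((Subgroup.one_lt_card_iff_ne_bot W).2 hW0)
  have hcomap : (M.map π).comap π = M := by
    rw [Subgroup.comap_map_eq, hπ, QuotientGroup.ker_mk', sup_eq_left.2 hWM]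
  haveI : Group.IsSolvable (G ⧸ W) := by
    refine IH _ (hn ▸ hlt) (G ⧸ W) rfl (hcop.coprime_dvd_right (Subgroup.card_quotient_dvd_card W))
      (M.map π) (fun h => hMtop ?_) ?_ ?_ ?_ ?_
    · rw [← hcomap, h, Subgroup.comap_top]
    · rintro a _ ⟨x, hx, rfl⟩
      exact ⟨a • x, hMinv a x hx, (hsm a x).symm⟩
    · intro H hMH hH hHA
      refine le_antisymm ?_ hMH
      rw [← Subgroup.map_comap_eq_self_of_surjective (QuotientGroup.mk'_surjective W) H]
      refine Subgroup.map_mono (le_of_eq (hMmax _ ?_ ?_ ?_))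
      · exact (Subgroup.map_le_iff_le_comap).1 hMH
      · intro h
        exact hH (by rw [← Subgroup.map_comap_eq_self_of_surjective (QuotientGroup.mk'_surjective W) H, h,
          Subgroup.map_top_of_surjective _ (QuotientGroup.mk'_surjective W)])
      · intro a x hx
        rw [Subgroup.mem_comap, QuotientGroup.mk'_apply] at hx ⊢
        rw [← hsm]
        exact hHA a _ hx
    · haveI := hnil
      exact Group.nilpotent_of_surjective (π.subgroupMap M) (MonoidHom.subgroupMap_surjective _ _)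
    · have hlift : ∀ x ∈ M.map π, (∃ k, x ^ 2 ^ k = 1) → ∃ y ∈ M, π y = x ∧ ∃ k, y ^ 2 ^ k = 1 := by
        rintro _ ⟨y, hy, rfl⟩ ⟨j, hj⟩
        obtain ⟨k, m, hm, he⟩ := Nat.exists_eq_two_pow_mul_odd (n := orderOf y) (orderOf_pos y).ne'
        obtain ⟨e, he'⟩ := exists_pow_eq_self_of_coprime (n := m) (x := π y)
          (Nat.Coprime.coprime_dvd_right (orderOf_dvd_of_pow_eq_one hj) (Nat.Coprime.pow_right j hm.coprime_two_right))
        refine ⟨(y ^ m) ^ e, M.pow_mem (M.pow_mem hy m) e, by rw [map_pow, map_pow, he'], k, ?_⟩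
        rw [← pow_mul, ← pow_mul, show m * (e * 2 ^ k) = 2 ^ k * m * e by ring, ← he, pow_mul,
          pow_orderOf_eq_one, one_pow]
      intro x hx y hy z hz hx2 hy2 hz2
      obtain ⟨x', hxM, rfl, hx'⟩ := hlift x hx hx2
      obtain ⟨y', hyM, rfl, hy'⟩ := hlift y hy hy2
      obtain ⟨z', hzM, rfl, hz'⟩ := hlift z hz hz2
      rw [← map_commutatorElement]
      exact (hcl x' hxM y' hyM z' hzM hx' hy' hz').map π
  exact solvable_of_ker_le_range W.subtype (QuotientGroup.mk' W)
    (by rw [QuotientGroup.ker_mk', Subgroup.range_subtype])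

end Cfsg.Agent.Invol.ClassTwo
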